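import Mathlib
import Cfsg.Agent.Lib.FastPerm
import Cfsg.Agent.Prune
set_option linter.all false
prune_inst 0x7f00000000000000000000000000000000000000000000000000000000000000000000000000000000000000000000000000000000000000000000000000000000000000000000000000000000000000003fffffffffffffffffffffffffffbeffbdffffffff
open scoped Cfsg.Agent.FastGrp

/-!
# Hering's theorem, degree 4 over `ZMod 3`: `A₅` has no faithful half-transitive action on 81 vectors (helper219)

All nonzero vectors have stabilisers of the same order `s`; counting the pairs (element, fixed vector):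
`60 + 80 s = 81 + 15 A + 20 B + 24`, `A`, `B` in {1, 3, 9, 27}; if `A ≠ 1` then `2 ∣ s`; no solution with `s ∣ 60`, and
`A = 1` means that the involutions act as `-1`.
-/

set_option autoImplicit false
set_option linter.unusedSectionVars false

namespace Cfsg.Agent.H219.HerSmall

open Equiv

theorem t2_mem : (swap 0 1 * swap 2 3 : Perm (Fin 5)) ∈ alternatingGroup (Fin 5) := by
  simp [Equiv.Perm.mem_alternatingGroup, Equiv.Perm.sign_swap']
theorem t3_mem : (swap 0 1 * swap 1 2 : Perm (Fin 5)) ∈ alternatingGroup (Fin 5) := by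
  simp [Equiv.Perm.mem_alternatingGroup, Equiv.Perm.sign_swap']

/-- an involution -/
def t2 : alternatingGroup (Fin 5) := ⟨swap 0 1 * swap 2 3, t2_mem⟩
/-- an element of order 3 -/
def t3 : alternatingGroup (Fin 5) := ⟨swap 0 1 * swap 1 2, t3_mem⟩

theorem conj2 : ∀ g : alternatingGroup (Fin 5), g ≠ 1 → g ^ 2 = 1 → ∃ c : alternatingGroup (Fin 5), g = c * t2 * c⁻¹ := by
  (set_option synthInstance.maxSize 9000 in open scoped Cfsg.Agent.Lib.FastPerm in decide +kernel)
theorem conj3 : ∀ g : alternatingGroup (Fin 5), g ≠ 1 → g ^ 3 = 1 → ∃ c : alternatingGroup (Fin 5), g = c * t3 * c⁻¹ := by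
  (set_option synthInstance.maxSize 9000 in open scoped Cfsg.Agent.Lib.FastPerm in decide +kernel)
theorem card1 : (Finset.univ.filter fun g : alternatingGroup (Fin 5) => g = 1).card = 1 := by (set_option synthInstance.maxSize 9000 in open scoped Cfsg.Agent.Lib.FastPerm in decide +kernel)
theorem card2 : (Finset.univ.filter fun g : alternatingGroup (Fin 5) => g ≠ 1 ∧ g ^ 2 = 1).card = 15 := by
  (set_option synthInstance.maxSize 9000 in open scoped Cfsg.Agent.Lib.FastPerm in decide +kernel)
theorem card3 : (Finset.univ.filter fun g : alternatingGroup (Fin 5) => ¬ g = 1 ∧ ¬ g ^ 2 = 1 ∧ g ^ 3 = 1).card = 20 := by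
  (set_option synthInstance.maxSize 9000 in open scoped Cfsg.Agent.Lib.FastPerm in decide +kernel)
theorem card5 : (Finset.univ.filter fun g : alternatingGroup (Fin 5) => ¬ g = 1 ∧ ¬ g ^ 2 = 1 ∧ ¬ g ^ 3 = 1).card = 24 := by
  (set_option synthInstance.maxSize 9000 in open scoped Cfsg.Agent.Lib.FastPerm in decide +kernel)
theorem all : ∀ g : alternatingGroup (Fin 5), g ≠ 1 → g ^ 2 ≠ 1 → g ^ 3 ≠ 1 → g ^ 5 = 1 := by (set_option synthInstance.maxSize 9000 in open scoped Cfsg.Agent.Lib.FastPerm in decide +kernel)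
theorem t2_ne : t2 ≠ 1 := by decide +kernel
theorem t2_sq : t2 ^ 2 = 1 := by decide +kernel
theorem t2_central : ¬ ∀ g : alternatingGroup (Fin 5), g * t2 = t2 * g := by decide +kernel

variable {V : Type*} [AddCommGroup V] [Module (ZMod 3) V] [Finite V]

/-- number of fixed vectors -/
noncomputable def fix (σ : alternatingGroup (Fin 5) →* (V ≃ₗ[ZMod 3] V)) (g : alternatingGroup (Fin 5)) : ℕ :=
  Nat.card {v : V // σ g v = v}

/-- order of the stabiliser -/
noncomputable def stab (σ : alternatingGroup (Fin 5) →* (V ≃ₗ[ZMod 3] V)) (v : V) : ℕ :=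
  Nat.card {g : alternatingGroup (Fin 5) // σ g v = v}

omit [Finite V] in
theorem fix_conj (σ : alternatingGroup (Fin 5) →* (V ≃ₗ[ZMod 3] V)) (g c : alternatingGroup (Fin 5)) :
    fix σ (c * g * c⁻¹) = fix σ g := by
  have hs : ∀ x y : alternatingGroup (Fin 5), ∀ v, σ (x * y) v = σ x (σ y v) := fun x y v => by
    rw [map_mul]; rfl
  have h1 : ∀ v, σ c⁻¹ (σ c v) = v := fun v => by rw [← hs, inv_mul_cancel, map_one]; rfl
  refine (Nat.card_congr ((σ c).toEquiv.subtypeEquiv ?_)).symm
  intro v
  change σ g v = v ↔ σ (c * g * c⁻¹) (σ c v) = σ c v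
  rw [hs, h1, hs]
  exact (σ c).injective.eq_iff.symm

theorem fix_dvd (σ : alternatingGroup (Fin 5) →* (V ≃ₗ[ZMod 3] V)) (hV : Nat.card V = 81)
    (g : alternatingGroup (Fin 5)) : fix σ g ∣ 81 := by
  let W : AddSubgroup V :=
    { carrier := {v | σ g v = v}
      zero_mem' := map_zero _
      add_mem' := fun {a b} ha hb => by
        change σ g (a + b) = a + b
        rw [map_add]; exact congrArg₂ (· + ·) ha hb
      neg_mem' := fun {a} ha => by
        change σ g (-a) = -a
        rw [map_neg]; exact congrArg (- ·) ha }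
  rw [← hV]
  exact AddSubgroup.card_addSubgroup_dvd_card W

theorem fix_ne (σ : alternatingGroup (Fin 5) →* (V ≃ₗ[ZMod 3] V)) (hV : Nat.card V = 81)
    (hinj : Function.Injective σ) {g : alternatingGroup (Fin 5)} (hg : g ≠ 1) : fix σ g ≠ 81 := by
  intro h
  apply hg
  apply hinj
  rw [map_one]
  ext v
  have h1 : Function.Bijective (Subtype.val : {v : V // σ g v = v} → V) :=
    (Nat.bijective_iff_injective_and_card _).2 ⟨Subtype.val_injective, h.trans hV.symm⟩
  obtain ⟨⟨w, hw⟩, rfl⟩ := h1.2 v
  exact hw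

theorem fix_cases (σ : alternatingGroup (Fin 5) →* (V ≃ₗ[ZMod 3] V)) (hV : Nat.card V = 81)
    (hinj : Function.Injective σ) {g : alternatingGroup (Fin 5)} (hg : g ≠ 1) :
    fix σ g = 1 ∨ fix σ g = 3 ∨ fix σ g = 9 ∨ fix σ g = 27 := by
  have h1 := fix_dvd σ hV g
  have h2 := fix_ne σ hV hinj hg
  obtain ⟨k, hk, h3⟩ := (Nat.dvd_prime_pow Nat.prime_three).1 (show fix σ g ∣ 3 ^ 4 by norm_num; exact h1)
  interval_cases k <;> simp_all

theorem fix_one (σ : alternatingGroup (Fin 5) →* (V ≃ₗ[ZMod 3] V)) (hV : Nat.card V = 81) : fix σ 1 = 81 := by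
  rw [← hV, fix]
  refine Nat.card_congr (Equiv.subtypeUnivEquiv fun v => ?_)
  rw [map_one]; rfl

theorem fix_five (σ : alternatingGroup (Fin 5) →* (V ≃ₗ[ZMod 3] V)) (hV : Nat.card V = 81)
    (hinj : Function.Injective σ) {g : alternatingGroup (Fin 5)} (hg : g ≠ 1) (h5 : g ^ 5 = 1) : fix σ g = 1 := by
  classical
  have := Fintype.ofFinite V
  have hp : Fact (Nat.Prime 5) := ⟨by norm_num⟩
  let f : Function.End V := fun v => σ g v
  have h1 : f ^ 5 ^ 1 = 1 := by
    have h2 : ∀ n : ℕ, f ^ n = fun v => σ (g ^ n) v := by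
      intro n
      induction n with
      | zero => rw [pow_zero, pow_zero, map_one]; rfl
      | succ n ih => rw [pow_succ, ih, pow_succ, map_mul]; rfl
    rw [h2, pow_one, h5, map_one]; rfl
  have h3 := Equiv.Perm.card_fixedPoints_modEq h1
  rw [← Nat.card_eq_fintype_card, ← Nat.card_eq_fintype_card, hV] at h3
  have h4 : Nat.card (Function.fixedPoints (fun v => σ g v : V → V)) = fix σ g := rfl
  rw [h4] at h3
  rcases fix_cases σ hV hinj hg with h | h | h | h
  · exact h
  all_goals
    rw [h] at h3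
    exact absurd h3 (by decide)

theorem sum_fix (σ : alternatingGroup (Fin 5) →* (V ≃ₗ[ZMod 3] V)) (hV : Nat.card V = 81)
    (hinj : Function.Injective σ) :
    ∑ g, fix σ g = 81 + 15 * fix σ t2 + 20 * fix σ t3 + 24 := by
  have h1 : ∀ g, fix σ g = if g = 1 then 81 else if g ^ 2 = 1 then fix σ t2 else if g ^ 3 = 1 then fix σ t3 else 1 := by
    intro g
    split_ifs with h h' h''
    · rw [h, fix_one σ hV]
    · obtain ⟨c, hc⟩ := conj2 g h h'
      rw [hc, fix_conj]
    · obtain ⟨c, hc⟩ := conj3 g h h''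
      rw [hc, fix_conj]
    · exact fix_five σ hV hinj h (all g h h' h'')
  rw [Finset.sum_congr rfl fun g _ => h1 g]
  rw [Finset.sum_ite, Finset.sum_ite, Finset.sum_ite, Finset.filter_filter, Finset.filter_filter, Finset.filter_filter,
    Finset.sum_const, Finset.sum_const, Finset.sum_const, Finset.sum_const, card1, card2, Finset.filter_filter,
    Finset.filter_filter, card3, card5]
  simp only [smul_eq_mul]
  ring

theorem sum_stab (σ : alternatingGroup (Fin 5) →* (V ≃ₗ[ZMod 3] V)) (hV : Nat.card V = 81) {s : ℕ}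
    (hs : ∀ v : V, v ≠ 0 → stab σ v = s) : ∑ g, fix σ g = 60 + 80 * s := by
  classical
  have := Fintype.ofFinite V
  have h1 : ∀ g, fix σ g = ∑ v : V, if σ g v = v then 1 else 0 := by
    intro g
    rw [Finset.sum_boole, fix, Nat.card_eq_fintype_card, Fintype.card_subtype]; rfl
  have h2 : ∀ v, stab σ v = ∑ g : alternatingGroup (Fin 5), if σ g v = v then 1 else 0 := by
    intro v
    rw [Finset.sum_boole, stab, Nat.card_eq_fintype_card, Fintype.card_subtype]; rfl
  rw [Finset.sum_congr rfl fun g _ => h1 g, Finset.sum_comm, ← Finset.sum_congr rfl fun v _ => h2 v,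
    ← Finset.add_sum_erase _ _ (Finset.mem_univ (0 : V)),
    Finset.sum_congr rfl fun v hv => hs v (Finset.ne_of_mem_erase hv), Finset.sum_const,
    Finset.card_erase_of_mem (Finset.mem_univ _), Finset.card_univ, ← Nat.card_eq_fintype_card, hV]
  have h3 : stab σ 0 = 60 := by
    rw [stab]
    have h4 : Nat.card {g : alternatingGroup (Fin 5) // σ g 0 = 0} = Nat.card (alternatingGroup (Fin 5)) :=
      Nat.card_congr (Equiv.subtypeUnivEquiv fun g => map_zero _)
    rw [h4, Nat.card_eq_fintype_card]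
    (set_option synthInstance.maxSize 9000 in open scoped Cfsg.Agent.Lib.FastPerm in decide +kernel)
  rw [h3]
  simp

theorem no_alt (σ : alternatingGroup (Fin 5) →* (V ≃ₗ[ZMod 3] V)) (hV : Nat.card V = 81)
    (hinj : Function.Injective σ) (hh : ∀ v w : V, v ≠ 0 → w ≠ 0 → stab σ v = stab σ w) : False := by
  have hmul : ∀ x y : alternatingGroup (Fin 5), ∀ v, σ (x * y) v = σ x (σ y v) := fun x y v => by
    rw [map_mul]; rfl
  have : Nontrivial V := by
    rw [← Finite.one_lt_card_iff_nontrivial, hV]; norm_num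
  obtain ⟨v0, hv0⟩ := exists_ne (0 : V)
  have h1 := sum_stab σ hV (s := stab σ v0) fun v hv => hh v v0 hv hv0
  rw [sum_fix σ hV hinj] at h1
  -- the stabiliser is a subgroup
  let St : V → Subgroup (alternatingGroup (Fin 5)) := fun v =>
    { carrier := {g | σ g v = v}
      one_mem' := by change σ 1 v = v; rw [map_one]; rfl
      mul_mem' := fun {a b} ha hb => by
        change σ (a * b) v = v
        rw [hmul, show σ b v = v from hb]; exact ha
      inv_mem' := fun {a} ha => by
        change σ a⁻¹ v = v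
        have h2 : σ a⁻¹ (σ a v) = v := by rw [← hmul, inv_mul_cancel, map_one]; rfl
        rwa [show σ a v = v from ha] at h2 }
  have hst : ∀ v, stab σ v = Nat.card (St v) := fun v => rfl
  have h60 : stab σ v0 ∣ 60 := by
    have h2 := Subgroup.card_subgroup_dvd_card (St v0)
    have h3 : Nat.card (alternatingGroup (Fin 5)) = 60 := by
      rw [Nat.card_eq_fintype_card]
      (set_option synthInstance.maxSize 9000 in open scoped Cfsg.Agent.Lib.FastPerm in decide +kernel)
    rwa [h3] at h2
  have hodd : fix σ t2 ≠ 1 → 2 ∣ stab σ v0 := by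
    intro h
    have h2 : ∃ v : V, v ≠ 0 ∧ σ t2 v = v := by
      by_contra hc
      push Not at hc
      apply h
      rw [fix, Nat.card_eq_one_iff_unique]
      refine ⟨⟨fun a b => Subtype.ext ?_⟩, ⟨0, map_zero _⟩⟩
      have ha : a.1 = 0 := by
        by_contra h3
        exact hc a.1 h3 a.2
      have hb : b.1 = 0 := by
        by_contra h3
        exact hc b.1 h3 b.2
      rw [ha, hb]
    obtain ⟨v, hv, h3⟩ := h2
    rw [hh v0 v hv0 hv, hst]
    have h4 : orderOf (⟨t2, h3⟩ : St v) = 2 := by
      rw [← Subgroup.orderOf_coe]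
      exact orderOf_eq_prime t2_sq t2_ne
    rw [← h4]
    exact orderOf_dvd_natCard _
  have hA1 : fix σ t2 ≠ 1 := by
    intro h
    have h2 : ∀ v, σ t2 v = -v := by
      intro v
      rw [fix, Nat.card_eq_one_iff_unique] at h
      have h3 : σ t2 (v + σ t2 v) = v + σ t2 v := by
        rw [map_add, ← hmul, ← pow_two, t2_sq, map_one, add_comm]; rfl
      have h4 := congrArg Subtype.val (h.1.elim ⟨v + σ t2 v, h3⟩ ⟨0, map_zero _⟩)
      exact (neg_eq_of_add_eq_zero_right h4).symm
    apply t2_central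
    intro g
    apply hinj
    ext v
    rw [hmul, hmul, h2, h2, map_neg]
  have h2 := fix_cases σ hV hinj t2_ne
  have h3 := fix_cases σ hV hinj (show t3 ≠ 1 by decide +kernel)
  have h4 := hodd hA1
  have h5 : stab σ v0 ≤ 60 := Nat.le_of_dvd (by norm_num) h60
  rcases h2 with h2 | h2 | h2 | h2
  · exact hA1 h2
  all_goals
    rw [h2] at h1
    rcases h3 with h3 | h3 | h3 | h3 <;> rw [h3] at h1 <;> omega

end Cfsg.Agent.H219.HerSmall

private theorem dce_5893d2b79da2 : _root_.True := by
  try have : _root_.True := by simp only [_root_.Cfsg.Agent.H219.HerSmall.fix.eq_1]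
  try have : _root_.True := by simp only [_root_.Cfsg.Agent.H219.HerSmall.stab.eq_1]
  exact _root_.True.intro
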