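import Cfsg.Agent.H50.HerGoal
import Cfsg.Agent.H341.ThreeList_m3
import Cfsg.Agent.S0252
import Cfsg.Agent.S0253
import Cfsg.Agent.S0254
import Cfsg.Agent.S0255
import Cfsg.Agent.S0256
import Cfsg.Agent.S0822
import Cfsg.Agent.H981.CentAlt5
import Cfsg.Agent.H219.HerAlt
import Cfsg.Agent.Prune
set_option linter.all false
prune_inst 0x7f00000000000000000000000000000000000000000000000000000000000000000000000000000000000000000000000000000000000000000000000000000000000000000000000000000000000000003fffffffffffffffffffffffffffbeffbdffffffff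
open scoped Cfsg.Agent.FastGrp

/-!
# Hering's theorem: degree 4 over `ZMod 2` and `ZMod 3` (helper219)

`row_two_four_of`, `row_three_four_of` : the rows, with the table of the orders of the simple groups as a hypothesis.
-/

set_option autoImplicit false

namespace Cfsg.Agent.H219.HerSmall

open Cfsg Cfsg.Agent.H50.Her Cfsg.Agent.OrdDiv

universe u v w

theorem card_aut {p d : ℕ} (hp : p.Prime) {V : Type v} [AddCommGroup V] [Module (ZMod p) V] [Finite V]
    (hV : Nat.card V = p ^ d) : Nat.card (V ≃ₗ[ZMod p] V) = ∏ i : Fin d, (p ^ d - p ^ (i : ℕ)) := by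
  have := Fact.mk hp
  have hf : Module.finrank (ZMod p) V = d := by
    have h1 := Module.natCard_eq_pow_finrank (K := ZMod p) (V := V)
    rw [hV, Nat.card_eq_fintype_card, ZMod.card] at h1
    exact (Nat.pow_right_injective hp.two_le h1).symm
  have e : V ≃ₗ[ZMod p] (Fin d → ZMod p) := LinearEquiv.ofFinrankEq _ _ (by rw [hf]; simp)
  have h1 : Nat.card (V ≃ₗ[ZMod p] V) = Nat.card (GL (Fin d) (ZMod p)) :=
    Nat.card_congr ((LinearMap.GeneralLinearGroup.generalLinearEquiv (ZMod p) V).symm.toEquiv.trans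
      ((LinearMap.GeneralLinearGroup.congrLinearEquiv e).toEquiv.trans Matrix.GeneralLinearGroup.toLin.symm.toEquiv))
  rw [h1, Matrix.card_GL_field, ZMod.card]

variable {p d b : ℕ} {L : Type u} {V : Type v} {S : Type w} [Group L] [AddCommGroup V] [Module (ZMod p) V]
  [Group S] {π : L →* S} {ρ : L →* (V ≃ₗ[ZMod p] V)}

theorem card_S_dvd (h : Cfg p d b L V S π ρ) : Nat.card S ∣ Nat.card L := by
  have := h.finL
  exact Subgroup.card_dvd_of_surjective π h.surj

theorem card_L_dvd (h : Cfg p d b L V S π ρ) : Nat.card L ∣ ∏ i : Fin d, (p ^ d - p ^ (i : ℕ)) := by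
  have := h.finL
  have := h.finV
  rw [← card_aut h.prime h.card_V]
  exact Subgroup.card_dvd_of_injective ρ h.inj

/-- the centre is trivial: `L ≃ S` -/
theorem equiv_of_center (h : Cfg p d b L V S π ρ) (hc : Subgroup.center L = ⊥) : Nonempty (L ≃* S) :=
  ⟨MulEquiv.ofBijective π ⟨(MonoidHom.ker_eq_bot_iff _).1 (h.cent.trans hc), h.surj⟩⟩

theorem center_of_card (h : Cfg p d b L V S π ρ) (hc : Nat.card (Subgroup.center L) = 1) : Nonempty (L ≃* S) :=
  equiv_of_center h (Subgroup.card_eq_one.1 hc)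

/-- the quotient by the centre -/
theorem quot_center (h : Cfg p d b L V S π ρ) : Nonempty (L ⧸ Subgroup.center L ≃* S) := by
  exact ⟨(QuotientGroup.quotientMulEquivOfEq h.cent.symm).trans
    (QuotientGroup.quotientKerEquivOfSurjective π h.surj)⟩

theorem not_comm (h : Cfg p d b L V S π ρ) : ¬ ∀ x y : S, x * y = y * x := by
  obtain ⟨x, y, hxy⟩ := h.noncomm
  exact fun hc => hxy (hc x y)

/-! ### groups of Lie type of characteristic 2 and 3 -/

theorem lie_psl {q n k : ℕ} (hp : q.Prime) {S : Type w} [Group S] {F : Type} [Field F] [Fintype F]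
    (hF : Fintype.card F = q ^ k) (hn : 2 ≤ n) (hn2 : n = 2 → 4 ≤ Fintype.card F)
    (e : S ≃* Matrix.ProjectiveSpecialLinearGroup (Fin n) F) : IsLieTypeChar q S := by
  have := Fact.mk hp
  exact Or.inl ⟨F, inferInstance, inferInstance, charP_of_card_eq_prime_pow hF, n, hn, hn2, ⟨e⟩⟩

theorem lie_psp {q n k : ℕ} (hp : q.Prime) {S : Type w} [Group S] {F : Type} [Field F] [Fintype F]
    (hF : Fintype.card F = q ^ k) (hn : 2 ≤ n) (hn2 : n = 2 → 3 ≤ Fintype.card F)
    (e : S ≃* PSp n F) : IsLieTypeChar q S := by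
  have := Fact.mk hp
  exact Or.inr (Or.inl ⟨F, inferInstance, inferInstance, charP_of_card_eq_prime_pow hF, n, hn, hn2, ⟨e⟩⟩)

theorem lie_real {q n k : ℕ} (hp : q.Prime) {S : Type w} [Group S] (hr : Real (.psl n (q ^ k)) S) (hn : 2 ≤ n)
    (hn2 : n = 2 → 4 ≤ q ^ k) : IsLieTypeChar q S := by
  obtain ⟨F, _, _, hF, ⟨e⟩⟩ := hr
  exact lie_psl hp hF hn (by rw [hF]; exact hn2) e

theorem lie_alt5 {S : Type w} [Group S] (e : S ≃* alternatingGroup (Fin 5)) : IsLieTypeChar 2 S := by
  have : Fintype (GaloisField 2 2) := Fintype.ofFinite _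
  have hF : Fintype.card (GaloisField 2 2) = 2 ^ 2 := by
    rw [← Nat.card_eq_fintype_card, GaloisField.card _ _ (by norm_num)]
  obtain ⟨f⟩ := S0252.result (F := GaloisField 2 2) (by rw [hF]; norm_num)
  exact lie_psl Nat.prime_two hF le_rfl (fun _ => by rw [hF]; norm_num) (e.trans f.symm)

theorem lie_alt8 {S : Type w} [Group S] (e : S ≃* alternatingGroup (Fin 8)) : IsLieTypeChar 2 S := by
  obtain ⟨f⟩ := S0256.result (F := ZMod 2) (by decide)
  exact lie_psl (F := ZMod 2) (k := 1) Nat.prime_two (by decide) (by norm_num) (fun h => by omega) (e.trans f.symm)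

theorem lie_alt6 {S : Type w} [Group S] (e : S ≃* alternatingGroup (Fin 6)) : IsLieTypeChar 3 S := by
  have : Fintype (GaloisField 3 2) := Fintype.ofFinite _
  have hF : Fintype.card (GaloisField 3 2) = 3 ^ 2 := by
    rw [← Nat.card_eq_fintype_card, GaloisField.card _ _ (by norm_num)]
  obtain ⟨f⟩ := S0254.result (F := GaloisField 3 2) (by rw [hF]; norm_num)
  exact lie_psl Nat.prime_three hF le_rfl (fun _ => by rw [hF]; norm_num) (e.trans f.symm)

theorem lie_seven {S : Type w} [Group S] (hr : Real (.psl 2 7) S) : IsLieTypeChar 2 S := by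
  obtain ⟨F, _, _, hF, ⟨e⟩⟩ := hr
  obtain ⟨f⟩ := S0255.result (F := F) (K := ZMod 2) hF (by decide)
  exact lie_psl (F := ZMod 2) (k := 1) Nat.prime_two (by decide) (by norm_num) (fun h => by omega) (e.trans f)

theorem alt_of_five {S : Type w} [Group S] (hr : Real (.psl 2 5) S) : Nonempty (S ≃* alternatingGroup (Fin 5)) := by
  obtain ⟨F, _, _, hF, ⟨e⟩⟩ := hr
  obtain ⟨f⟩ := S0253.result hF
  exact ⟨e.trans f⟩

theorem alt_of_four {S : Type w} [Group S] (hr : Real (.psl 2 4) S) : Nonempty (S ≃* alternatingGroup (Fin 5)) := by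
  obtain ⟨F, _, _, hF, ⟨e⟩⟩ := hr
  obtain ⟨f⟩ := S0252.result hF
  exact ⟨e.trans f⟩

theorem alt_of_nine {S : Type w} [Group S] (hr : Real (.psl 2 9) S) : Nonempty (S ≃* alternatingGroup (Fin 6)) := by
  obtain ⟨F, _, _, hF, ⟨e⟩⟩ := hr
  obtain ⟨f⟩ := S0254.result hF
  exact ⟨e.trans f⟩

theorem lie_psu {S : Type w} [Group S] (hr : Real (.psu 4 2) S) : IsLieTypeChar 3 S := by
  obtain ⟨F, _, _, hF, ⟨e⟩⟩ := hr
  obtain ⟨f⟩ := S0822.result (F := F) (K := ZMod 3) hF (by decide)
  exact lie_psp (F := ZMod 3) (k := 1) Nat.prime_three (by decide) le_rfl (fun h => by decide) (e.trans f)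

/-- the simple groups of order dividing `|GL₄(2)|`, not of Lie type in characteristic 2 -/
theorem simple_two (T : OrderTable.{w}) {S : Type w} [Group S] (hk : IsKnownSimple' S)
    (hna : ¬ ∀ x y : S, x * y = y * x) (hn : ¬ IsLieTypeChar 2 S) (hd : Nat.card S ∣ 20160) :
    (Nonempty (S ≃* alternatingGroup (Fin 6)) ∨ Nonempty (S ≃* alternatingGroup (Fin 7))) := by
  obtain ⟨g, hg, hr⟩ := exists_real T hk hna (l := [(2, 6), (3, 2), (5, 1), (7, 1)]) (by decide +kernel) hd
  have hc : cands [(2, 6), (3, 2), (5, 1), (7, 1)] 20160 = [.alt 5, .alt 6, .alt 7, .alt 8, .psl 3 2, .psl 4 2,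
      .psl 2 4, .psl 3 4, .psl 2 8, .psl 2 9, .psl 2 5, .psl 2 7] := by decide +kernel
  rw [hc] at hg
  simp only [List.mem_cons, List.not_mem_nil, or_false] at hg
  rcases hg with rfl | rfl | rfl | rfl | rfl | rfl | rfl | rfl | rfl | rfl | rfl | rfl
  · obtain ⟨e⟩ := hr
    exact absurd (lie_alt5 e) hn
  · exact Or.inl hr
  · exact Or.inr hr
  · obtain ⟨e⟩ := hr
    exact absurd (lie_alt8 e) hn
  · exact absurd (lie_real (k := 1) Nat.prime_two hr (by norm_num) (by omega)) hn
  · exact absurd (lie_real (k := 1) Nat.prime_two hr (by norm_num) (by omega)) hn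
  · exact absurd (lie_real (k := 2) Nat.prime_two hr (by norm_num) (by omega)) hn
  · exact absurd (lie_real (k := 2) Nat.prime_two hr (by norm_num) (by omega)) hn
  · exact absurd (lie_real (k := 3) Nat.prime_two hr (by norm_num) (by omega)) hn
  · exact Or.inl (alt_of_nine hr)
  · obtain ⟨e⟩ := alt_of_five hr
    exact absurd (lie_alt5 e) hn
  · exact absurd (lie_seven hr) hn

/-- the simple groups of order dividing `|GL₄(3)|` and divisible by 5, not of Lie type in characteristic 3 -/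
theorem simple_three (T : OrderTable.{w}) {S : Type w} [Group S] (hk : IsKnownSimple' S)
    (hna : ¬ ∀ x y : S, x * y = y * x) (hn : ¬ IsLieTypeChar 3 S) (hd : Nat.card S ∣ 2 ^ 9 * 3 ^ 6 * 5 * 13)
    (h5 : 5 ∣ Nat.card S) : Nonempty (S ≃* alternatingGroup (Fin 5)) := by
  obtain ⟨g, hg, hr⟩ := exists_real_filter T hk hna (l := [(2, 9), (3, 6), (5, 1), (13, 1)]) (by decide +kernel) hd
    (fun n => n % 5 == 0) (by simpa using Nat.mod_eq_zero_of_dvd h5)
  have hc : (cands [(2, 9), (3, 6), (5, 1), (13, 1)] (2 ^ 9 * 3 ^ 6 * 5 * 13)).filter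
      (fun g => (fun n => n % 5 == 0) (ordN g)) = [.alt 5, .alt 6, .psl 2 4, .psl 4 3,
      .psl 2 9, .psl 2 5, .psp 2 3, .psu 4 2] := by decide +kernel
  rw [hc] at hg
  simp only [List.mem_cons, List.not_mem_nil, or_false] at hg
  rcases hg with rfl | rfl | rfl | rfl | rfl | rfl | rfl | rfl
  · exact hr
  · obtain ⟨e⟩ := hr
    exact absurd (lie_alt6 e) hn
  · exact alt_of_four hr
  · exact absurd (lie_real (k := 1) Nat.prime_three hr (by norm_num) (by omega)) hn
  · exact absurd (lie_real (k := 2) Nat.prime_three hr (by norm_num) (by omega)) hn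
  · exact alt_of_five hr
  · obtain ⟨F, _, _, hF, ⟨e⟩⟩ := hr
    exact absurd (lie_psp (k := 1) Nat.prime_three (by rw [hF]; norm_num) le_rfl (fun h => by rw [hF]) e) hn
  · exact absurd (lie_psu hr) hn

/-! ### degree 4 over `ZMod 2` -/

/-- `|End_L(V)| = 4`, `|V| = 16`: two vectors have trivial common stabiliser -/
theorem card_L_le (h : Cfg p d b L V S π ρ) (hV : Nat.card V = 16) (hb : p ^ b = 4) : Nat.card L ≤ 256 := by
  have := h.finL
  have := h.finV
  let K := {f : V →ₗ[ZMod p] V // ∀ g x, f (ρ g x) = ρ g (f x)}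
  have hK : Nat.card K = 4 := h.card_end.trans hb
  have : Finite (V →ₗ[ZMod p] V) := Finite.of_injective (fun f => (f : V → V)) DFunLike.coe_injective
  have : Finite K := inferInstanceAs (Finite {f : V →ₗ[ZMod p] V // ∀ g x, f (ρ g x) = ρ g (f x)})
  -- nonzero elements of `K` are injective
  have hinj : ∀ f : K, f.1 ≠ 0 → ∀ x, f.1 x = 0 → x = 0 := by
    intro f hf x hx
    rcases h.irr (LinearMap.ker f.1) (fun g y hy => by
      rw [LinearMap.mem_ker] at hy ⊢
      rw [f.2, hy, map_zero]) with h1 | h1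
    · have h2 : x ∈ LinearMap.ker f.1 := hx
      rw [h1] at h2
      exact (Submodule.mem_bot _).1 h2
    · exact absurd (LinearMap.ker_eq_top.1 h1) hf
  have : Nontrivial V := by
    rw [← Finite.one_lt_card_iff_nontrivial, hV]; norm_num
  obtain ⟨v, hv⟩ := exists_ne (0 : V)
  have h1 : ∃ w : V, ∀ f : K, f.1 v ≠ w := by
    by_contra hc
    push Not at hc
    have h2 : Function.Surjective (fun f : K => f.1 v) := hc
    have h3 := Nat.card_le_card_of_surjective _ h2
    rw [hV, hK] at h3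
    omega
  obtain ⟨w, hw⟩ := h1
  have hsub : ∀ f f' : K, ∃ k : K, k.1 = f.1 - f'.1 := fun f f' => ⟨⟨f.1 - f'.1, fun g x => by
    rw [LinearMap.sub_apply, LinearMap.sub_apply, f.2, f'.2, map_sub]⟩, rfl⟩
  have h2 : Function.Injective (fun f : K × K => f.1.1 v + f.2.1 w) := by
    rintro ⟨a, b⟩ ⟨a', b'⟩ hab
    change a.1 v + b.1 w = a'.1 v + b'.1 w at hab
    obtain ⟨k, hk⟩ := hsub a a'
    obtain ⟨m, hm⟩ := hsub b' b
    have h3 : k.1 v = m.1 w := by
      rw [hk, hm, LinearMap.sub_apply, LinearMap.sub_apply, sub_eq_sub_iff_add_eq_add, hab, add_comm]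
    have h4 : m.1 = 0 := by
      by_contra hm0
      have h5 : Function.Injective m.1 := (injective_iff_map_eq_zero _).2 (hinj m hm0)
      have h6 : Function.Bijective m.1 := Finite.injective_iff_bijective.1 h5
      let e : V ≃ₗ[ZMod p] V := LinearEquiv.ofBijective m.1 h6
      have he : ∀ x, e x = m.1 x := fun x => rfl
      have h7 : ∀ g x, e.symm (ρ g x) = ρ g (e.symm x) := by
        intro g x
        rw [LinearEquiv.symm_apply_eq, he, m.2, ← he, LinearEquiv.apply_symm_apply]
      refine hw ⟨e.symm.toLinearMap ∘ₗ k.1, fun g x => ?_⟩ ?_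
      · change e.symm (k.1 (ρ g x)) = ρ g (e.symm (k.1 x))
        rw [k.2, h7]
      · change e.symm (k.1 v) = w
        rw [h3, LinearEquiv.symm_apply_eq]; rfl
    have h5 : b' = b := Subtype.ext (sub_eq_zero.1 (hm ▸ h4))
    have h6 : k.1 = 0 := by
      by_contra hk0
      refine hv (hinj k hk0 v ?_)
      rw [h3, h4, LinearMap.zero_apply]
    have h7 : a = a' := Subtype.ext (sub_eq_zero.1 (hk ▸ h6))
    rw [h5, h7]
  have h3 : Function.Bijective (fun f : K × K => f.1.1 v + f.2.1 w) := by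
    refine (Nat.bijective_iff_injective_and_card _).2 ⟨h2, ?_⟩
    rw [Nat.card_prod, hK, hV]
  have h4 : Function.Injective (fun g : L => ((ρ g v, ρ g w) : V × V)) := by
    intro g g' hg
    have hg1 : ρ g v = ρ g' v := congrArg Prod.fst hg
    have hg2 : ρ g w = ρ g' w := congrArg Prod.snd hg
    apply h.inj
    ext x
    obtain ⟨⟨f, f'⟩, hx⟩ := h3.2 x
    change f.1 v + f'.1 w = x at hx
    rw [← hx, map_add, map_add, ← f.2, ← f'.2, ← f.2, ← f'.2, hg1, hg2]
  have h5 := Nat.card_le_card_of_injective _ h4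
  rw [Nat.card_prod, hV] at h5
  exact h5

theorem card_alt (n : ℕ) (hn : 2 ≤ n) : 2 * Nat.card (alternatingGroup (Fin n)) = n.factorial := by
  have : Nontrivial (Fin n) := Fin.nontrivial_iff_two_le.2 hn
  rw [Nat.card_eq_fintype_card, two_mul_card_alternatingGroup, Fintype.card_perm, Fintype.card_fin]

theorem row_two_four_of (T : OrderTable.{w}) (h : Cfg p d b L V S π ρ) (hp : p = 2) (hd : d = 4)
    (hS : IsKnownSimple' S) (hn : ¬ IsLieTypeChar p S) : HerType p d b L := by
  subst hp hd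
  have hb0 := h.b_pos
  have hb1 := h.b_lt
  have hb2 := h.b_dvd
  have h1 := card_S_dvd h
  have h2 := card_L_dvd h
  have h3 : ∏ i : Fin 4, (2 ^ 4 - 2 ^ (i : ℕ)) = 20160 := by decide
  rw [h3] at h2
  have h4 := simple_two T hS (not_comm h) hn (h1.trans h2)
  have h5 : 360 ≤ Nat.card S := by
    rcases h4 with ⟨⟨e⟩⟩ | ⟨⟨e⟩⟩
    · have := card_alt 6 (by norm_num)
      rw [Nat.card_congr e.toEquiv]
      have h6 : (6 : ℕ).factorial = 720 := rfl
      omega
    · have := card_alt 7 (by norm_num)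
      rw [Nat.card_congr e.toEquiv]
      have h6 : (7 : ℕ).factorial = 5040 := rfl
      omega
  have hLpos : 0 < Nat.card L := by
    have := h.finL
    exact Nat.card_pos
  have hb : b = 1 := by
    have h6 : b = 1 ∨ b = 2 ∨ b = 3 := by omega
    rcases h6 with h6 | h6 | h6
    · exact h6
    · exfalso
      have h7 := card_L_le h (by rw [h.card_V]; norm_num) (by rw [h6]; norm_num)
      have h8 := Nat.le_of_dvd hLpos h1
      omega
    · rw [h6] at hb2
      omega
  have hc : Nat.card (Subgroup.center L) = 1 := by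
    have := h.card_center
    rw [hb] at this
    exact Nat.dvd_one.1 this
  obtain ⟨f⟩ := center_of_card h hc
  refine Or.inr (Or.inr (Or.inl ⟨rfl, rfl, hb, ?_⟩))
  rcases h4 with ⟨⟨e⟩⟩ | ⟨⟨e⟩⟩
  · exact Or.inl ⟨f.trans e⟩
  · exact Or.inr ⟨f.trans e⟩

/-! ### degree 4 over `ZMod 3` -/

theorem row_three_four_of (T : OrderTable.{w}) (h : Cfg p d b L V S π ρ) (hh : Half ρ) (hp : p = 3) (hd : d = 4)
    (hS : IsKnownSimple' S) (hn : ¬ IsLieTypeChar p S) (h5 : 5 ∣ Nat.card S) : HerType p d b L := by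
  subst hp hd
  have := h.finL
  have := h.finV
  have h1 := card_S_dvd h
  have h2 := card_L_dvd h
  have h3 : ∏ i : Fin 4, (3 ^ 4 - 3 ^ (i : ℕ)) = 2 ^ 9 * 3 ^ 6 * 5 * 13 := by decide
  rw [h3] at h2
  obtain ⟨e⟩ := simple_three T hS (not_comm h) hn (h1.trans h2) h5
  obtain ⟨f⟩ := quot_center h
  rcases H981.CentAlt5.alt5 h.perf (f.trans e) with hc | hc
  · exfalso
    obtain ⟨k⟩ := equiv_of_center h hc
    let E : L ≃* alternatingGroup (Fin 5) := k.trans e
    refine no_alt (ρ.comp E.symm.toMonoidHom) (by rw [h.card_V]; norm_num)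
      (h.inj.comp E.symm.injective) ?_
    intro v w hv hw
    have h6 : ∀ v, stab (ρ.comp E.symm.toMonoidHom) v = Nat.card {g : L // ρ g v = v} := by
      intro v
      refine Nat.card_congr (E.symm.toEquiv.subtypeEquiv ?_)
      intro g
      exact Iff.rfl
    rw [h6, h6]
    exact hh v w hv hw
  · exact Or.inr (Or.inl ⟨Or.inr ⟨rfl, rfl⟩, hc⟩)

end Cfsg.Agent.H219.HerSmall
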