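import Cfsg.Agent.H219.NatGrp
import Cfsg.Agent.H219.FConf
import Cfsg.Agent.Involutions.BaerSuzuki
import Cfsg.Agent.PLocal.OffenderStep
set_option linter.all false

-- part: H219/Finish
section
/-!
From a quadratic pair `a, b` on an elementary abelian normal subgroup to a configuration.
-/

set_option autoImplicit false

namespace Cfsg.Agent.H219.Finish

open Subgroup
open Cfsg.Agent.Lib.GoldschmidtFusion
open Cfsg.Agent.Walter.GlaubermanFusion
open Cfsg.Agent.H219.Conf Cfsg.Agent.H219.NatGrp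

variable {G : Type*} [Group G] {p : ℕ} {lam : ZMod p}

/-- `g` is a `p`-element acting quadratically on `B`. -/
def Quad (p : ℕ) (B : Subgroup G) (g : G) : Prop :=
  (∃ n : ℕ, g ^ p ^ n = 1) ∧ ∀ x ∈ B, g * (g * x * g⁻¹ * x⁻¹) * g⁻¹ = g * x * g⁻¹ * x⁻¹

theorem Quad.conj {B : Subgroup G} [hB : B.Normal] {g : G} (h : Quad p B g) (k : G) :
    Quad p B (k * g * k⁻¹) := by
  obtain ⟨⟨n, hn⟩, hq⟩ := h
  refine ⟨⟨n, by rw [conj_pow, hn]; group⟩, ?_⟩
  intro x hx
  have h1 := hq (k⁻¹ * x * k) (by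
    have := hB.conj_mem x hx k⁻¹
    rwa [inv_inv] at this)
  have h2 := congrArg (fun t => k * t * k⁻¹) h1
  have e1 : k * g * k⁻¹ * (k * g * k⁻¹ * x * (k * g * k⁻¹)⁻¹ * x⁻¹) * (k * g * k⁻¹)⁻¹ =
      k * (g * (g * (k⁻¹ * x * k) * g⁻¹ * (k⁻¹ * x * k)⁻¹) * g⁻¹) * k⁻¹ := by group
  have e2 : k * g * k⁻¹ * x * (k * g * k⁻¹)⁻¹ * x⁻¹ =
      k * (g * (k⁻¹ * x * k) * g⁻¹ * (k⁻¹ * x * k)⁻¹) * k⁻¹ := by group
  rw [e1, e2, h2]

theorem isPGroup_of_exp {B : Subgroup G} (hBexp : ∀ x ∈ B, x ^ p = 1) : IsPGroup p B := by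
  intro x
  exact ⟨1, Subtype.ext (by rw [pow_one]; exact hBexp x x.2)⟩

theorem finish [Finite G] [hpf : Fact p.Prime] (hp : p ≠ 2) (hlam : lam ≠ 0)
    {S Z B : Subgroup G} (hS : IsPGroup p S) (hi : ¬ p ∣ S.relIndex (normalizer (Z : Set G)))
    [hBn : B.Normal] (hBH : B ≤ normalizer (Z : Set G))
    (hBab : ∀ x ∈ B, ∀ y ∈ B, x * y = y * x) (hBexp : ∀ x ∈ B, x ^ p = 1)
    {a b y : G} (ha : Quad p B a) (hb : Quad p B b) (hyB : y ∈ B) (hyZ : y ∈ Z)
    (hy : a * y * a⁻¹ = y) {K : Subgroup G} (hK : Subgroup.closure ({a, b} : Set G) = K)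
    (hnp : ∃ k ∈ K, (orderOf k).Coprime p ∧ k * y * k⁻¹ ≠ y)
    {P₀ : Subgroup G} (hP₀K : P₀ ≤ K) (hP₀ : IsPGroup p P₀) (hidx : ¬ p ∣ P₀.relIndex K)
    (haP : a ∈ P₀) (hP₀H : P₀ ≤ normalizer (Z : Set G))
    (hN : ∀ x ∈ K, x ∈ normalizer (P₀ : Set G) → x ∈ normalizer (Z : Set G)) :
    FConf p lam S (normalizer (Z : Set G)) Z := by
  have hnp' : ∃ k ∈ K, ∀ n : ℕ, ∃ l ∈ K,
      k ^ p ^ n * (l * y * l⁻¹) * (k ^ p ^ n)⁻¹ ≠ l * y * l⁻¹ := by
    obtain ⟨k, hk, hcop, hne⟩ := hnp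
    refine ⟨k, hk, fun n => ⟨1, K.one_mem, fun h => hne ?_⟩⟩
    rw [one_mul, inv_one, mul_one] at h
    have h1 : k ^ p ^ n ∈ centralizer ({y} : Set G) := by
      rw [mem_centralizer_iff]
      intro t ht
      rw [Set.mem_singleton_iff] at ht
      rw [ht]
      exact (mul_inv_eq_iff_eq_mul.1 h).symm
    have h2 : k ∈ zpowers (k ^ p ^ n) := by
      have h3 : (orderOf k).Coprime (p ^ n) := Nat.Coprime.pow_right n hcop
      obtain ⟨m, hm⟩ := exists_pow_eq_self_of_coprime (x := k) h3.symm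
      have h5 := pow_mem (mem_zpowers (k ^ p ^ n)) m
      rwa [hm] at h5
    have h3 : k ∈ centralizer ({y} : Set G) := by
      have h4 : zpowers (k ^ p ^ n) ≤ centralizer ({y} : Set G) := by rwa [zpowers_le]
      exact h4 h2
    have h4 := (mem_centralizer_iff.1 h3) y rfl
    rw [← h4, mul_inv_cancel_right]
  obtain ⟨W, e1, e2, Q₀, x, hWB, hyW, h1, h2, hadd, hsur, hQ, hxK, hxP, hxQ, hxW, hq, hq', hx⟩ :=
    exists_natural (lam := lam) hp B hBab hBexp K (fun k _ x hx => hBn.conj_mem x hx k) a b hK ha.2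
      hb.2 y hyB hy hnp' P₀ hP₀K hP₀ hidx haP hlam
  have hQ₀W : Q₀ ≤ normalizer (W : Set G) := by
    intro q hqQ
    rw [mem_normalizer_iff_map_conj]
    apply map_conj_le_of_le_normalizer
    rintro _ ⟨w, hw, rfl⟩
    obtain ⟨c, hc⟩ := hq q hqQ
    exact (hc w hw).1
  have hmem : ∀ q ∈ W ⊔ Q₀, ∃ w₀ ∈ W, ∃ q₀ ∈ Q₀, q = w₀ * q₀ := by
    intro q hqQ
    have h3 : q ∈ (((Q₀ ⊔ W : Subgroup G)) : Set G) := by
      rw [sup_comm]; exact hqQ
    rw [coe_mul_of_left_le_normalizer_right _ _ hQ₀W] at h3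
    obtain ⟨s, hs, c, hc, rfl⟩ := Set.mem_mul.1 h3
    exact ⟨s * c * s⁻¹, (Subgroup.mem_normalizer_iff.1 (hQ₀W hs) c).1 hc, s, hs, by group⟩
  have hWab : ∀ w₀ ∈ W, ∀ w ∈ W, w₀ * w * w₀⁻¹ = w := by
    intro w₀ hw₀ w hw
    rw [hBab _ (hWB hw₀) _ (hWB hw), mul_inv_cancel_right]
  have hcore : Core p lam W (W ⊔ Q₀) e1 e2 x := by
    refine ⟨le_sup_left, ?_, hxW, hadd, hsur, ?_, ?_, hx⟩
    · rw [mem_normalizer_iff_map_conj, Subgroup.map_sup, mem_normalizer_iff_map_conj.1 hxW,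
        mem_normalizer_iff_map_conj.1 hxQ]
    · intro q hqQ
      obtain ⟨w₀, hw₀, q₀, hq₀, rfl⟩ := hmem q hqQ
      obtain ⟨c, hc⟩ := hq q₀ hq₀
      refine ⟨c, fun w hw => ?_⟩
      have e : w₀ * q₀ * w * (w₀ * q₀)⁻¹ = q₀ * w * q₀⁻¹ := by
        have := hWab w₀ hw₀ _ (hc w hw).1
        calc w₀ * q₀ * w * (w₀ * q₀)⁻¹ = w₀ * (q₀ * w * q₀⁻¹) * w₀⁻¹ := by group
          _ = q₀ * w * q₀⁻¹ := this
      rw [e]
      exact hc w hw
    · obtain ⟨q, hqQ, c, hc0, hc⟩ := hq'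
      exact ⟨q, le_sup_right (a := W) hqQ, c, hc0, hc⟩
  have hBp : IsPGroup p B := isPGroup_of_exp hBexp
  have hBP : IsPGroup p (B ⊔ P₀ : Subgroup G) := hBp.to_sup_of_normal_left hP₀
  have hF : FConf p lam (B ⊔ P₀) (normalizer (Z : Set G)) Z :=
    ⟨W, W ⊔ Q₀, e1, e2, x, hcore, sup_le_sup hWB hQ, hN x hxK hxP, y, hyZ, hyW, h1, h2⟩
  obtain ⟨n, hn, hnle⟩ := exists_conj_le_in (p := p) hS hi (sup_le hBH hP₀H) hBP
  have hF' := hF.conj n
  rw [mem_normalizer_iff_map_conj.1 hn,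
    mem_normalizer_iff_map_conj.1 (le_normalizer hn)] at hF'
  exact hF'.mono hnle le_rfl le_rfl

end Cfsg.Agent.H219.Finish
end

-- part: H219/CaseOne
section
/-!
The case where a quadratic element of `H = N(Z)` acts nontrivially on `Y₁`.
-/

set_option autoImplicit false

namespace Cfsg.Agent.H219.CaseOne

open Subgroup
open scoped commutatorElement
open Cfsg.Agent.Lib.GoldschmidtFusion
open Cfsg.Agent.Walter.GlaubermanFusion
open Cfsg.Agent.H219.Conf Cfsg.Agent.H219.Finish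

variable {G : Type*} [Group G] {p : ℕ}

/-- If a Sylow subgroup of `K` and all elements of `K` of order prime to `p` are in `M` then `K ≤ M`. -/
theorem le_of_pprime [Finite G] [hpf : Fact p.Prime] {K R M : Subgroup G} (hRK : R ≤ K)
    (hidx : ¬ p ∣ R.relIndex K) (hR : R ≤ M)
    (h : ∀ x ∈ K, (orderOf x).Coprime p → x ∈ M) : K ≤ M := by
  set C := Subgroup.closure {x : G | x ∈ K ∧ (orderOf x).Coprime p} with hC
  have hCK : C ≤ K := by
    rw [hC, closure_le]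
    exact fun x hx => hx.1
  have hCM : C ≤ M := by
    rw [hC, closure_le]
    exact fun x hx => h x hx.1 hx.2
  have hKC : K ≤ normalizer (C : Set G) := by
    intro k hk
    rw [mem_normalizer_iff_map_conj]
    apply map_conj_le_of_le_normalizer
    rw [hC, MonoidHom.map_closure, closure_le]
    rintro _ ⟨x, ⟨hx1, hx2⟩, rfl⟩
    refine subset_closure ⟨K.mul_mem (K.mul_mem hk hx1) (K.inv_mem hk), ?_⟩
    have : orderOf ((MulAut.conj k).toMonoidHom x) = orderOf x :=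
      orderOf_injective _ (MulAut.conj k).injective x
    rw [this]
    exact hx2
  intro x hx
  obtain ⟨s, hs, c, hc, rfl⟩ := exists_mul_of_pprime_mem (p := p) hRK hidx hCK hKC
    (fun y hy hcop => subset_closure ⟨hy, hcop⟩) hx
  exact M.mul_mem (hR hs) (hCM hc)

/-- An element of order prime to `p` of `R L`, `R` a `p`-group normalizing `L`, lies in `L`. -/
theorem mem_of_mem_sup [Finite G] [hpf : Fact p.Prime] {R L : Subgroup G} (hR : IsPGroup p R)
    (hRL : R ≤ normalizer (L : Set G)) {k : G} (hk : k ∈ R ⊔ L) (hcop : (orderOf k).Coprime p) :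
    k ∈ L := by
  have hXL : R ⊔ L ≤ normalizer (L : Set G) := sup_le hRL le_normalizer
  have hn : (L.subgroupOf (R ⊔ L)).Normal := by
    rwa [normal_subgroupOf_iff_le_normalizer le_sup_right]
  have h1 := Subgroup.pow_index_mem (L.subgroupOf (R ⊔ L)) ⟨k, hk⟩
  have h2 : k ^ L.relIndex (R ⊔ L) ∈ L := h1
  have h3 : L.relIndex (R ⊔ L) ∣ Nat.card R := by
    have h4 := card_sup_mul_card_inf hRL
    rw [← card_mul_relIndex_of_le (le_sup_right : L ≤ R ⊔ L)] at h4
    have h5 : L.relIndex (R ⊔ L) * Nat.card (R ⊓ L : Subgroup G) = Nat.card R := by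
      apply Nat.eq_of_mul_eq_mul_left (Nat.card_pos (α := L))
      rw [← mul_assoc, h4, mul_comm]
    exact Dvd.intro _ h5
  obtain ⟨j, hj⟩ := IsPGroup.iff_card.1 hR
  have h4 : (L.relIndex (R ⊔ L)).Coprime (orderOf k) := by
    rw [hj] at h3
    exact Nat.Coprime.coprime_dvd_left h3 (Nat.Coprime.pow_left j hcop.symm)
  obtain ⟨m, hm⟩ := exists_pow_eq_self_of_coprime (x := k) h4
  have h5 := pow_mem h2 m
  rwa [hm] at h5

theorem normalizer_le_normalizer_centralizer (A : Subgroup G) :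
    normalizer (A : Set G) ≤ normalizer ((centralizer (A : Set G) : Subgroup G) : Set G) := by
  rw [le_normalizer_iff]
  intro m hm k hk
  rw [← mem_normalizer_iff_map_conj.1 hm, mem_centralizer_map_conj]
  simpa [mul_assoc] using hk

theorem inf_le_normalizer_inf {A B : Subgroup G} : normalizer (A : Set G) ⊓ normalizer (B : Set G) ≤
    normalizer ((A ⊓ B : Subgroup G) : Set G) := by
  intro n hn
  rw [mem_normalizer_iff_map_conj, Subgroup.map_inf _ _ _ (MulAut.conj n).injective,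
      mem_normalizer_iff_map_conj.1 hn.1, mem_normalizer_iff_map_conj.1 hn.2]

/-- A fixed vector of `a` moved by an element of order prime to `p`. -/
theorem exists_fixed_moved [Finite G] [hpf : Fact p.Prime] {K V : Subgroup G} {a b : G}
    (hK : Subgroup.closure ({a, b} : Set G) = K) (hKV : K ≤ normalizer (V : Set G))
    (hV : IsPGroup p V) (hb : ∃ n : ℕ, b ^ p ^ n = 1)
    (haq : ∀ x ∈ V, a * (a * x * a⁻¹ * x⁻¹) * a⁻¹ = a * x * a⁻¹ * x⁻¹)
    (hnp : ∃ k ∈ K, (orderOf k).Coprime p ∧ k ∉ centralizer (V : Set G)) :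
    ∃ y ∈ V, a * y * a⁻¹ = y ∧ ∃ k ∈ K, (orderOf k).Coprime p ∧ k * y * k⁻¹ ≠ y := by
  by_contra hcon
  push Not at hcon
  have haK : a ∈ K := by rw [← hK]; exact Subgroup.subset_closure (by simp)
  have hbK : b ∈ K := by rw [← hK]; exact Subgroup.subset_closure (by simp)
  set C := Subgroup.closure {x : G | x ∈ K ∧ (orderOf x).Coprime p} with hC
  have hKC : K ≤ normalizer (C : Set G) := by
    intro k hk
    rw [mem_normalizer_iff_map_conj]
    apply map_conj_le_of_le_normalizer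
    rw [hC, MonoidHom.map_closure, closure_le]
    rintro _ ⟨x, ⟨hx1, hx2⟩, rfl⟩
    refine subset_closure ⟨K.mul_mem (K.mul_mem hk hx1) (K.inv_mem hk), ?_⟩
    have : orderOf ((MulAut.conj k).toMonoidHom x) = orderOf x :=
      orderOf_injective _ (MulAut.conj k).injective x
    rw [this]
    exact hx2
  set U := V ⊓ centralizer (C : Set G) with hU
  have hKU : K ≤ normalizer (U : Set G) := by
    intro k hk
    exact inf_le_normalizer_inf ⟨hKV hk, normalizer_le_normalizer_centralizer C (hKC hk)⟩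
  have haU : ∀ u ∈ V, a * u * a⁻¹ * u⁻¹ ∈ U := by
    intro u hu
    have h1 : a * u * a⁻¹ * u⁻¹ ∈ V :=
      V.mul_mem ((Subgroup.mem_normalizer_iff.1 (hKV haK) u).1 hu) (V.inv_mem hu)
    refine ⟨h1, ?_⟩
    have h2 : C ≤ centralizer ({a * u * a⁻¹ * u⁻¹} : Set G) := by
      rw [hC, closure_le]
      intro k hk
      have h3 := hcon _ h1 (haq u hu) k hk.1 hk.2
      rw [SetLike.mem_coe, mem_centralizer_iff]
      intro t ht
      rw [Set.mem_singleton_iff] at ht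
      rw [ht]
      exact (mul_inv_eq_iff_eq_mul.1 h3).symm
    refine mem_centralizer_iff.2 ?_
    intro c hc
    exact ((mem_centralizer_iff.1 (h2 hc)) _ rfl).symm
  -- the subgroup acting trivially on `V / U`
  let L : Subgroup G :=
    { carrier := {k | k ∈ normalizer (V : Set G) ∧ k ∈ normalizer (U : Set G) ∧
        ∀ u ∈ V, k * u * k⁻¹ * u⁻¹ ∈ U}
      mul_mem' := by
        rintro k l ⟨hk1, hk2, hk3⟩ ⟨hl1, hl2, hl3⟩
        refine ⟨mul_mem hk1 hl1, mul_mem hk2 hl2, fun u hu => ?_⟩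
        have e : k * l * u * (k * l)⁻¹ * u⁻¹ =
            k * (l * u * l⁻¹ * u⁻¹) * k⁻¹ * (k * u * k⁻¹ * u⁻¹) := by group
        rw [e]
        exact U.mul_mem ((Subgroup.mem_normalizer_iff.1 hk2 _).1 (hl3 u hu)) (hk3 u hu)
      one_mem' := ⟨one_mem _, one_mem _, fun u hu => by
        have e : (1 : G) * u * 1⁻¹ * u⁻¹ = 1 := by group
        rw [e]; exact U.one_mem⟩
      inv_mem' := by
        rintro k ⟨hk1, hk2, hk3⟩
        refine ⟨inv_mem hk1, inv_mem hk2, fun u hu => ?_⟩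
        have e : k⁻¹ * u * k⁻¹⁻¹ * u⁻¹ = k⁻¹ * (k * u * k⁻¹ * u⁻¹)⁻¹ * k⁻¹⁻¹ := by group
        rw [e]
        exact (Subgroup.mem_normalizer_iff.1 (inv_mem hk2) _).1 (U.inv_mem (hk3 u hu)) }
  have hbL : zpowers b ≤ normalizer (L : Set G) := by
    rw [zpowers_le, mem_normalizer_iff_map_conj]
    apply map_conj_le_of_le_normalizer
    rintro _ ⟨l, ⟨hl1, hl2, hl3⟩, rfl⟩
    have hbV := hKV hbK
    have hbU := hKU hbK
    change b * l * b⁻¹ ∈ L
    refine ⟨mul_mem (mul_mem hbV hl1) (inv_mem hbV), mul_mem (mul_mem hbU hl2) (inv_mem hbU), ?_⟩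
    intro u hu
    have hu' : b⁻¹ * u * b ∈ V := by
      have := (Subgroup.mem_normalizer_iff.1 (inv_mem hbV) u).1 hu
      rwa [inv_inv] at this
    have e : b * l * b⁻¹ * u * (b * l * b⁻¹)⁻¹ * u⁻¹ =
        b * (l * (b⁻¹ * u * b) * l⁻¹ * (b⁻¹ * u * b)⁻¹) * b⁻¹ := by group
    rw [e]
    exact (Subgroup.mem_normalizer_iff.1 hbU _).1 (hl3 _ hu')
  have hKL : K ≤ zpowers b ⊔ L := by
    rw [← hK, closure_le]
    rintro x (rfl | hx)
    · exact le_sup_right (a := zpowers b) (show x ∈ L from ⟨hKV haK, hKU haK, haU⟩)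
    · rw [Set.mem_singleton_iff.1 hx]
      exact le_sup_left (a := zpowers b) (mem_zpowers b)
  have hbp : IsPGroup p (zpowers b) := by
    obtain ⟨n, hn⟩ := hb
    rintro ⟨z, hz⟩
    obtain ⟨m, rfl⟩ := Subgroup.mem_zpowers_iff.1 hz
    refine ⟨n, Subtype.ext ?_⟩
    change (b ^ m) ^ p ^ n = 1
    rw [← zpow_natCast, ← zpow_mul, mul_comm, zpow_mul, zpow_natCast, hn, one_zpow]
  obtain ⟨k, hk, hcop, hkV⟩ := hnp
  apply hkV
  have hkL : k ∈ L := mem_of_mem_sup hbp hbL (hKL hk) hcop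
  rw [mem_centralizer_iff]
  intro u hu
  have h1 := hkL.2.2 u hu
  have h2 : ⁅u, k⁆ ∈ U := by
    have e : ⁅u, k⁆ = (k * u * k⁻¹ * u⁻¹)⁻¹ := by
      rw [commutatorElement_def]; group
    rw [e]
    exact U.inv_mem h1
  have hkC : k ∈ C := subset_closure ⟨hk, hcop⟩
  have hcard : (orderOf k).Coprime (Nat.card U) := by
    obtain ⟨j, hj⟩ := IsPGroup.iff_card.mp (hV.to_le (inf_le_left : U ≤ V))
    rw [hj]; exact Nat.Coprime.pow_right j hcop
  exact Lib.CoprimeStab.commute_of_commutator_commute hcard h2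
    ((mem_centralizer_iff.1 h2.2) k hkC).symm

/-- Baer–Suzuki on a minimal `H`-invariant `p`-subgroup. -/
theorem exists_moving [Finite G] [hpf : Fact p.Prime] {H V : Subgroup G} {a : G}
    (hV : IsPGroup p V) (hV1 : V ≠ ⊥) (hHV : H ≤ normalizer (V : Set G))
    (hmin : ∀ U : Subgroup G, U ≤ V → U ≠ ⊥ → H ≤ normalizer (U : Set G) → U = V)
    (haH : a ∈ H) (haV : a ∉ centralizer (V : Set G)) :
    ∃ h ∈ H, ∃ k ∈ Subgroup.closure ({a, h * a * h⁻¹} : Set G),
      (orderOf k).Coprime p ∧ k ∉ centralizer (V : Set G) := by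
  by_contra hcon
  push Not at hcon
  set C : Subgroup H := (centralizer (V : Set G)).subgroupOf H with hC
  have hCn : C.Normal := by
    have h1 : H ≤ normalizer ((centralizer (V : Set G) : Subgroup G) : Set G) :=
      hHV.trans (normalizer_le_normalizer_centralizer V)
    refine ⟨fun c hc g => ?_⟩
    exact (Subgroup.mem_normalizer_iff.1 (h1 g.2) c).1 hc
  set ψ := QuotientGroup.mk' C with hψ
  have hψs : Function.Surjective ψ := QuotientGroup.mk'_surjective _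
  have hψ1 : ∀ x : H, ψ x = 1 ↔ (x : G) ∈ centralizer (V : Set G) := fun x =>
    QuotientGroup.eq_one_iff x
  have hx : ψ ⟨a, haH⟩ ∈ Cfsg.pCore p (H ⧸ C) := by
    apply Involutions.BaerSuzuki.mem_pCore_of_conj_pairs
    intro g
    obtain ⟨h, rfl⟩ := hψs g
    have e : (Subgroup.closure {ψ ⟨a, haH⟩, ψ h * ψ ⟨a, haH⟩ * (ψ h)⁻¹} : Subgroup (H ⧸ C)) =
        (Subgroup.closure {(⟨a, haH⟩ : H), h * ⟨a, haH⟩ * h⁻¹}).map ψ := by
      rw [MonoidHom.map_closure, Set.image_pair, map_mul, map_mul, map_inv]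
    rw [e]
    rintro ⟨_, k, hk, rfl⟩
    obtain ⟨j, m, hm, hkm⟩ := Nat.exists_eq_pow_mul_and_not_dvd (orderOf_pos (k : G)).ne' p
      hpf.out.one_lt.ne'
    refine ⟨j, Subtype.ext ?_⟩
    change (ψ k) ^ p ^ j = 1
    rw [← map_pow, hψ1]
    refine hcon h h.2 _ ?_ ?_
    · have h1 : (k : G) ∈ (Subgroup.closure {(⟨a, haH⟩ : H), h * ⟨a, haH⟩ * h⁻¹}).map H.subtype :=
        ⟨k, hk, rfl⟩
      rw [MonoidHom.map_closure, Set.image_pair] at h1
      exact pow_mem h1 _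
    · rw [Subgroup.coe_pow, orderOf_pow_of_dvd (pow_ne_zero _ hpf.out.ne_zero)
        (by rw [hkm]; exact Dvd.intro _ rfl), hkm, Nat.mul_div_cancel_left _ (pow_pos hpf.out.pos _)]
      exact ((Nat.Prime.coprime_iff_not_dvd hpf.out).2 hm).symm
  have hEn : (Cfsg.pCore p (H ⧸ C)).Normal := Lib.Cores.pCore_normal p
  have hEp : IsPGroup p (Cfsg.pCore p (H ⧸ C)) := Lib.Cores.pCore_isPGroup p
  set D : Subgroup H := (Cfsg.pCore p (H ⧸ C)).comap ψ with hD
  have hDn : D.Normal := by rw [hD]; infer_instance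
  set D' : Subgroup G := D.map H.subtype with hD'
  have hD'H : D' ≤ H := map_subtype_le D
  have hHD' : H ≤ normalizer (D' : Set G) := by
    intro h hh
    rw [mem_normalizer_iff_map_conj]
    apply map_conj_le_of_le_normalizer
    rintro _ ⟨_, ⟨d, hd, rfl⟩, rfl⟩
    exact ⟨⟨h, hh⟩ * d * ⟨h, hh⟩⁻¹, hDn.conj_mem d hd _, rfl⟩
  obtain ⟨R, -, hRD, hR, hRi⟩ := exists_sylow_in (p := p) (N := D') (D := ⊥) bot_le
    IsPGroup.of_bot
  have hpp : ∀ d ∈ D', (orderOf d).Coprime p → d ∈ centralizer (V : Set G) := by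
    rintro _ ⟨d, hd, rfl⟩ hcop
    have h1 : ψ d ∈ Cfsg.pCore p (H ⧸ C) := hd
    obtain ⟨n, hn⟩ := hEp ⟨ψ d, h1⟩
    have h2 : (ψ d) ^ p ^ n = 1 := congrArg Subtype.val hn
    have h3 : (orderOf (ψ d)) ∣ orderOf (H.subtype d) := by
      have h4 : orderOf (H.subtype d) = orderOf d := orderOf_injective H.subtype H.subtype_injective d
      rw [h4]
      exact orderOf_map_dvd ψ d
    have h4 : (orderOf (ψ d)) ∣ p ^ n := orderOf_dvd_of_pow_eq_one h2
    have h5 : orderOf (ψ d) = 1 :=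
      Nat.eq_one_of_dvd_coprimes (Nat.Coprime.pow_right n hcop) h3 h4
    exact (hψ1 d).1 (orderOf_eq_one_iff.1 h5)
  have hRV : R ≤ normalizer (V : Set G) := hRD.trans (hD'H.trans hHV)
  obtain ⟨⟨z, hz1, hz2⟩, hz3⟩ := (Subgroup.ne_bot_iff_exists_ne_one).1
    (PLocal.OffenderStep.inf_centralizer_ne_bot (p := p) V R hV hR hRV hV1)
  have hD'z : D' ≤ centralizer ({z} : Set G) := by
    refine le_of_pprime hRD hRi ?_ ?_
    · intro r hr
      rw [mem_centralizer_iff]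
      intro t ht
      rw [Set.mem_singleton_iff] at ht
      rw [ht]
      exact ((mem_centralizer_iff.1 hz2) r hr).symm
    · intro d hd hcop
      rw [mem_centralizer_iff]
      intro t ht
      rw [Set.mem_singleton_iff] at ht
      rw [ht]
      exact (mem_centralizer_iff.1 (hpp d hd hcop)) z hz1
  have hU := hmin (V ⊓ centralizer (D' : Set G)) inf_le_left (by
    intro hb
    apply hz3
    apply Subtype.ext
    have h1 : z ∈ V ⊓ centralizer (D' : Set G) := by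
      refine ⟨hz1, ?_⟩
      refine mem_centralizer_iff.2 ?_
      intro d hd
      exact ((mem_centralizer_iff.1 (hD'z hd)) z rfl).symm
    rw [hb, mem_bot] at h1
    exact h1) (by
    intro h hh
    exact inf_le_normalizer_inf ⟨hHV hh, normalizer_le_normalizer_centralizer D' (hHD' hh)⟩)
  apply haV
  rw [mem_centralizer_iff]
  intro v hv
  have hv' : v ∈ centralizer (D' : Set G) := by
    have h1 : v ∈ V ⊓ centralizer (D' : Set G) := by rw [hU]; exact hv
    exact h1.2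
  have haD' : a ∈ D' := ⟨⟨a, haH⟩, hx, rfl⟩
  exact ((mem_centralizer_iff.1 hv') a haD').symm

end Cfsg.Agent.H219.CaseOne
end

-- part: H219/CaseTwo
section
/-!
The unique maximal subgroup argument.
-/

set_option autoImplicit false

namespace Cfsg.Agent.H219.CaseTwo

open Subgroup
open scoped Pointwise
open Cfsg.Agent.Lib.GoldschmidtFusion
open Cfsg.Agent.Walter.GlaubermanFusion
open Cfsg.Agent.H219.Conf Cfsg.Agent.H219.Finish Cfsg.Agent.H219.CaseOne

variable {G : Type*} [Group G] {p : ℕ} {lam : ZMod p}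

/-- The situation of the second half of the centric case. -/
structure Setup (p : ℕ) (S Z B V : Subgroup G) : Prop where
  pS : IsPGroup p S
  syl : ¬ p ∣ S.index
  SH : S ≤ normalizer (Z : Set G)
  top : normalizer (Z : Set G) ≠ ⊤
  uniq : ∀ M : Subgroup G, M ≠ ⊤ → S ≤ M → M ≤ normalizer (Z : Set G)
  Bn : B.Normal
  Bab : ∀ x ∈ B, ∀ y ∈ B, x * y = y * x
  Bexp : ∀ x ∈ B, x ^ p = 1
  VZ : V ≤ Z
  VB : V ≤ B
  V1 : V ≠ ⊥
  HV : normalizer (Z : Set G) ≤ normalizer (V : Set G)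
  Vn : normalizer (V : Set G) ≠ ⊤

theorem isPGroup_zpowers {b : G} (hb : ∃ n : ℕ, b ^ p ^ n = 1) : IsPGroup p (zpowers b) := by
  obtain ⟨n, hn⟩ := hb
  rintro ⟨z, hz⟩
  obtain ⟨m, rfl⟩ := Subgroup.mem_zpowers_iff.1 hz
  refine ⟨n, Subtype.ext ?_⟩
  change (b ^ m) ^ p ^ n = 1
  rw [← zpow_natCast, ← zpow_mul, mul_comm, zpow_mul, zpow_natCast, hn, one_zpow]

variable [Finite G] [hpf : Fact p.Prime] {S Z B V : Subgroup G}

omit [Finite G] in
theorem Setup.BH (st : Setup p S Z B V) : B ≤ normalizer (Z : Set G) := by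
  have h1 : B ≤ Cfsg.pCore p G := Lib.Cores.le_pCore st.Bn (isPGroup_of_exp st.Bexp)
  exact (h1.trans (Lib.Cores.pCore_le_sylow (st.pS.toSylow st.syl))).trans st.SH

theorem case_one (hp : p ≠ 2) (hlam : lam ≠ 0) (st : Setup p S Z B V)
    (hmin : ∀ U : Subgroup G, U ≤ V → U ≠ ⊥ → normalizer (Z : Set G) ≤ normalizer (U : Set G) →
      U = V)
    {a : G} (haH : a ∈ normalizer (Z : Set G)) (haq : Quad p B a)
    (haV : a ∉ centralizer (V : Set G)) : FConf p lam S (normalizer (Z : Set G)) Z := by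
  have hBn := st.Bn
  have hBp : IsPGroup p B := isPGroup_of_exp st.Bexp
  have hVp : IsPGroup p V := hBp.to_le st.VB
  obtain ⟨h, hh, hk⟩ := exists_moving hVp st.V1 st.HV hmin haH haV
  have hbH : h * a * h⁻¹ ∈ normalizer (Z : Set G) := mul_mem (mul_mem hh haH) (inv_mem hh)
  have hbq : Quad p B (h * a * h⁻¹) := haq.conj h
  set b := h * a * h⁻¹ with hb
  set K := Subgroup.closure ({a, b} : Set G) with hK
  have hKH : K ≤ normalizer (Z : Set G) := by
    rw [hK, closure_le]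
    rintro x (rfl | hx)
    · exact haH
    · rw [Set.mem_singleton_iff.1 hx]; exact hbH
  have haK : a ∈ K := Subgroup.subset_closure (by simp)
  obtain ⟨y, hyV, hy, hmv⟩ := exists_fixed_moved (K := K) (V := V) rfl (hKH.trans st.HV) hVp hbq.1
    (fun x hx => haq.2 x (st.VB hx)) hk
  obtain ⟨P₀, haP, hPK, hPp, hPi⟩ := exists_sylow_in (p := p) (N := K) (D := zpowers a)
    (by rwa [zpowers_le]) (isPGroup_zpowers haq.1)
  exact finish hp hlam st.pS (fun hd => st.syl (hd.trans (relIndex_dvd_index_of_le st.SH))) st.BH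
    st.Bab st.Bexp haq hbq (st.VB hyV) (st.VZ hyV) hy (K := K) rfl hmv hPK hPp hPi
    (haP (mem_zpowers a)) (hPK.trans hKH) (fun x hx _ => hKH hx)

/-- In a `p`-group `T`, a proper "`Δ`-generated" subgroup is normalized by a further element of `Δ`. -/
theorem exists_normalizing {T R : Subgroup G} (hT : IsPGroup p T) (hRT : R ≤ T) (D : Set G)
    (hD : ∀ t ∈ T, ∀ d ∈ D, t * d * t⁻¹ ∈ D) (hR : R ≤ Subgroup.closure {g | g ∈ D ∧ g ∈ R})
    {d₀ : G} (hd₀ : d₀ ∈ D) (hd₀T : d₀ ∈ T) (hd₀R : d₀ ∉ R) :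
    ∃ d ∈ D, d ∈ T ∧ d ∉ R ∧ d ∈ normalizer (R : Set G) := by
  by_cases hN : T ≤ normalizer (R : Set G)
  · exact ⟨d₀, hd₀, hd₀T, hd₀R, hN hd₀T⟩
  set N := T ⊓ normalizer (R : Set G) with hNdef
  have hNT : N < T := by
    refine lt_of_le_of_ne inf_le_left ?_
    intro h
    exact hN (inf_eq_left.1 h)
  obtain ⟨s, hs, hsN⟩ := SetLike.exists_of_lt (lt_inf_normalizer hT hNT)
  have hsR : ¬ R.map (MulAut.conj s).toMonoidHom ≤ R := by
    intro h
    apply hsN
    exact ⟨hs.1, mem_normalizer_iff_map_conj.2 (map_conj_le_of_le_normalizer h)⟩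
  have hex : ∃ d ∈ D, d ∈ R ∧ s * d * s⁻¹ ∉ R := by
    by_contra hcon
    push Not at hcon
    apply hsR
    refine (map_conj_mono hR s).trans ?_
    rw [MonoidHom.map_closure, closure_le]
    rintro _ ⟨d, ⟨hd1, hd2⟩, rfl⟩
    exact hcon d hd1 hd2
  obtain ⟨d, hdD, hdR, hds⟩ := hex
  have hRN : R ≤ N := le_inf hRT le_normalizer
  have h1 : s * d * s⁻¹ ∈ N := (Subgroup.mem_normalizer_iff.1 hs.2 d).1 (hRN hdR)
  exact ⟨s * d * s⁻¹, hD s hs.1 d hdD, h1.1, hds, h1.2⟩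

theorem case_two (hp : p ≠ 2) (hlam : lam ≠ 0) (st : Setup p S Z B V)
    (htriv : ∀ d ∈ normalizer (Z : Set G), Quad p B d → d ∈ centralizer (V : Set G))
    {a : G} (haS : a ∈ S) (haq : Quad p B a) (haY : a ∉ Cfsg.pCore p G) :
    FConf p lam S (normalizer (Z : Set G)) Z := by
  classical
  have hBn := st.Bn
  set H := normalizer (Z : Set G) with hH
  let P : Sylow p G := st.pS.toSylow st.syl
  have hPS : (P : Subgroup G) = S := rfl
  have hSi : ¬ p ∣ S.relIndex H := fun hd => st.syl (hd.trans (relIndex_dvd_index_of_le st.SH))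
  have hNS : normalizer (S : Set G) ≤ H := by
    refine st.uniq _ ?_ le_normalizer
    intro htop
    apply haY
    exact Lib.Cores.le_pCore (normalizer_eq_top_iff.1 htop) st.pS haS
  -- Sylow subgroups of `G` in `H` are `H`-conjugate to `S`
  have hconj : ∀ T : Sylow p G, (T : Subgroup G) ≤ H →
      ∃ n ∈ H, (T : Subgroup G).map (MulAut.conj n).toMonoidHom = S := by
    intro T hT
    obtain ⟨n, hn, hle⟩ := exists_conj_le_in (p := p) st.pS hSi hT T.isPGroup'
    refine ⟨n, hn, ?_⟩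
    have h1 : ((n • T : Sylow p G) : Subgroup G) ≤ (P : Subgroup G) := by
      rw [Sylow.coe_subgroup_smul]; exact hle
    have h2 := (n • T).is_maximal' P.isPGroup' h1
    rw [Sylow.coe_subgroup_smul] at h2
    exact h2.symm
  have huniq : ∀ T : Sylow p G, (T : Subgroup G) ≤ H → ∀ M : Subgroup G, M ≠ ⊤ →
      (T : Subgroup G) ≤ M → M ≤ H := by
    intro T hT M hM hTM
    obtain ⟨n, hn, hnS⟩ := hconj T hT
    have h1 : S ≤ M.map (MulAut.conj n).toMonoidHom := by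
      rw [← hnS]; exact map_conj_mono hTM n
    have h2 : M.map (MulAut.conj n).toMonoidHom ≠ ⊤ := by
      intro htop
      apply hM
      have h3 := congrArg (Subgroup.map (MulAut.conj n⁻¹).toMonoidHom) htop
      rw [map_conj_map_conj, inv_mul_cancel, map_conj_one] at h3
      rw [h3, Subgroup.map_top_of_surjective _ (MulAut.conj n⁻¹).surjective]
    have h3 := st.uniq _ h2 h1
    intro m hm
    have h4 : n * m * n⁻¹ ∈ H := h3 (conj_mem_map_conj hm n)
    have h5 := mul_mem (mul_mem (inv_mem hn) h4) hn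
    have e : n⁻¹ * (n * m * n⁻¹) * n = m := by group
    rwa [e] at h5
  have hmemH : ∀ (T : Sylow p G) (g : G), (T : Subgroup G) ≤ H →
      ((g • T : Sylow p G) : Subgroup G) ≤ H → g ∈ H := by
    intro T g hT hgT
    obtain ⟨u, hu, huS⟩ := hconj T hT
    obtain ⟨v, hv, hvS⟩ := hconj (g • T) hgT
    have h1 : v * g * u⁻¹ ∈ normalizer (S : Set G) := by
      rw [mem_normalizer_iff_map_conj]
      nth_rewrite 1 [← huS]
      rw [map_conj_map_conj]
      have e : v * g * u⁻¹ * u = v * g := by group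
      rw [e, ← map_conj_map_conj]
      exact hvS
    have h2 := mul_mem (mul_mem (inv_mem hv) (hNS h1)) hu
    have e : v⁻¹ * (v * g * u⁻¹) * u = g := by group
    rwa [e] at h2
  -- `N(V) ≤ H`
  have hNV : normalizer (V : Set G) ≤ H := st.uniq _ st.Vn (st.SH.trans st.HV)
  -- the pairs of Sylow subgroups
  let RR : Sylow p G × Sylow p G → Subgroup G := fun T =>
    Subgroup.closure {g | Quad p B g ∧ g ∈ (T.1 : Subgroup G) ∧ g ∈ (T.2 : Subgroup G)}
  let Pr : Set (Sylow p G × Sylow p G) := {T | (T.1 : Subgroup G) ≤ H ∧ ¬ (T.2 : Subgroup G) ≤ H}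
  have hPrne : Pr.Nonempty := by
    by_contra hcon
    rw [Set.not_nonempty_iff_eq_empty] at hcon
    have hall : ∀ T : Sylow p G, (T : Subgroup G) ≤ H := by
      intro T
      by_contra hT
      have : (P, T) ∈ Pr := ⟨st.SH, hT⟩
      rw [hcon] at this
      exact this
    apply st.top
    rw [eq_top_iff]
    intro g _
    exact hmemH P g (hall P) (hall (g • P))
  obtain ⟨⟨T₁, T₂⟩, hT, hTmax⟩ := (Set.toFinite Pr).exists_maximalFor
    (fun T => Nat.card (RR T)) _ hPrne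
  obtain ⟨hT₁, hT₂⟩ : (T₁ : Subgroup G) ≤ H ∧ ¬ (T₂ : Subgroup G) ≤ H := hT
  set R := RR (T₁, T₂) with hR
  have hRT₁ : R ≤ (T₁ : Subgroup G) := by
    rw [hR, closure_le]; exact fun g hg => hg.2.1
  have hRT₂ : R ≤ (T₂ : Subgroup G) := by
    rw [hR, closure_le]; exact fun g hg => hg.2.2
  have hRgen : R ≤ Subgroup.closure {g | g ∈ {g | Quad p B g} ∧ g ∈ R} := by
    conv_lhs => rw [hR]
    rw [closure_le]
    intro g hg
    exact subset_closure ⟨hg.1, subset_closure hg⟩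
  have hRp : IsPGroup p R := T₁.isPGroup'.to_le hRT₁
  -- the key property of the maximal pair
  have key : ∀ T T' : Sylow p G, (T : Subgroup G) ≤ H → R ≤ (T : Subgroup G) →
      R ≤ (T' : Subgroup G) → ∀ d, Quad p B d → d ∉ R → d ∈ (T : Subgroup G) →
      d ∈ (T' : Subgroup G) → (T' : Subgroup G) ≤ H := by
    intro T T' hTH hRT hRT' d hd hdR hdT hdT'
    by_contra hcon
    have h1 : (T, T') ∈ Pr := ⟨hTH, hcon⟩
    have hle : R ≤ RR (T, T') := by
      conv_lhs => rw [hR]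
      change Subgroup.closure _ ≤ _
      rw [closure_le]
      intro g hg
      have hgR : g ∈ R := subset_closure hg
      exact subset_closure ⟨hg.1, hRT hgR, hRT' hgR⟩
    have hlt : R < RR (T, T') := by
      refine lt_of_le_of_ne hle ?_
      intro h
      apply hdR
      rw [h]
      exact subset_closure ⟨hd, hdT, hdT'⟩
    have h2 := PLocal.ConjFunctor.card_lt_card_of_lt hlt
    have h3 : Nat.card (RR (T, T')) ≤ Nat.card R := hTmax h1 h2.le
    omega
  -- counting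
  have hcount : ∀ T T' : Sylow p G, (∀ d, Quad p B d → d ∈ (T : Subgroup G) →
      d ∈ (T' : Subgroup G)) → ∀ d, Quad p B d → d ∈ (T' : Subgroup G) → d ∈ (T : Subgroup G) := by
    intro T T' hsub
    obtain ⟨g, hg⟩ := MulAction.exists_smul_eq G T T'
    have himg : {d | Quad p B d ∧ d ∈ (T' : Subgroup G)} =
        (fun d => g * d * g⁻¹) '' {d | Quad p B d ∧ d ∈ (T : Subgroup G)} := by
      ext d
      constructor
      · rintro ⟨hd1, hd2⟩
        refine ⟨g⁻¹ * d * g, ⟨?_, ?_⟩, by group⟩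
        · have := hd1.conj g⁻¹
          rwa [inv_inv] at this
        · rw [← hg, Sylow.coe_subgroup_smul] at hd2
          exact (mem_map_conj (A := (T : Subgroup G))).1 hd2
      · rintro ⟨e, ⟨he1, he2⟩, rfl⟩
        refine ⟨he1.conj g, ?_⟩
        rw [← hg, Sylow.coe_subgroup_smul]
        exact conj_mem_map_conj he2 g
    have hinj : Function.Injective (fun d : G => g * d * g⁻¹) := (MulAut.conj g).injective
    have hcard : {d | Quad p B d ∧ d ∈ (T' : Subgroup G)}.ncard =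
        {d | Quad p B d ∧ d ∈ (T : Subgroup G)}.ncard := by
      rw [himg, Set.ncard_image_of_injective _ hinj]
    have heq := Set.eq_of_subset_of_ncard_le
      (s := {d | Quad p B d ∧ d ∈ (T : Subgroup G)})
      (t := {d | Quad p B d ∧ d ∈ (T' : Subgroup G)}) (fun d hd => ⟨hd.1, hsub d hd.1 hd.2⟩)
      hcard.le (Set.toFinite _)
    intro d hd1 hd2
    have : d ∈ {d | Quad p B d ∧ d ∈ (T' : Subgroup G)} := ⟨hd1, hd2⟩
    rw [← heq] at this
    exact this.2
  -- `Δ ∩ T₁ ⊄ R`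
  have hne₁ : ∃ d, Quad p B d ∧ d ∈ (T₁ : Subgroup G) ∧ d ∉ R := by
    by_contra hcon
    push Not at hcon
    have h12 : ∀ d, Quad p B d → d ∈ (T₁ : Subgroup G) → d ∈ (T₂ : Subgroup G) :=
      fun d hd hdT => hRT₂ (hcon d hd hdT)
    have h21 := hcount T₁ T₂ h12
    have hnorm : ∀ T : Sylow p G, (∀ d, Quad p B d → (d ∈ (T : Subgroup G) ↔
        d ∈ (T₁ : Subgroup G))) → (T : Subgroup G) ≤ normalizer (R : Set G) := by
      intro T hT t ht
      rw [mem_normalizer_iff_map_conj]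
      apply map_conj_le_of_le_normalizer
      refine (map_conj_mono hRgen t).trans ?_
      rw [MonoidHom.map_closure, closure_le]
      rintro _ ⟨d, ⟨hd1, hd2⟩, rfl⟩
      have hd1' : Quad p B d := hd1
      have h1 : d ∈ (T : Subgroup G) := (hT d hd1').2 (hRT₁ hd2)
      have h2 : t * d * t⁻¹ ∈ (T : Subgroup G) := mul_mem (mul_mem ht h1) (inv_mem ht)
      exact hcon _ (hd1'.conj t) ((hT _ (hd1'.conj t)).1 h2)
    have hn1 := hnorm T₁ (fun d _ => Iff.rfl)
    have hn2 := hnorm T₂ (fun d hd => ⟨h21 d hd, h12 d hd⟩)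
    have htop : normalizer (R : Set G) = ⊤ := by
      by_contra hne
      exact hT₂ (hn2.trans (huniq T₁ hT₁ _ hne hn1))
    have hRn : R.Normal := normalizer_eq_top_iff.1 htop
    obtain ⟨n, hn, hnS⟩ := hconj T₁ hT₁
    apply haY
    have h1 : n⁻¹ * a * n ∈ (T₁ : Subgroup G) := by
      rw [← hnS, mem_map_conj] at haS
      exact haS
    have h2 : n⁻¹ * a * n ∈ R := by
      have h3 := haq.conj n⁻¹
      rw [inv_inv] at h3
      exact hcon _ h3 h1
    have h3 := hRn.conj_mem _ h2 n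
    have e : n * (n⁻¹ * a * n) * n⁻¹ = a := by group
    rw [e] at h3
    exact Lib.Cores.le_pCore hRn hRp h3
  have hne₂ : ∃ d, Quad p B d ∧ d ∈ (T₂ : Subgroup G) ∧ d ∉ R := by
    by_contra hcon
    push Not at hcon
    have h21 : ∀ d, Quad p B d → d ∈ (T₂ : Subgroup G) → d ∈ (T₁ : Subgroup G) :=
      fun d hd hdT => hRT₁ (hcon d hd hdT)
    have h12 := hcount T₂ T₁ h21
    obtain ⟨d, hd, hdT, hdR⟩ := hne₁
    exact hdR (hcon d hd (h12 d hd hdT))
  obtain ⟨d₁, hd₁, hd₁T, hd₁R⟩ := hne₁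
  obtain ⟨d₂, hd₂, hd₂T, hd₂R⟩ := hne₂
  obtain ⟨a₁, ha₁, ha₁T, ha₁R, ha₁N⟩ := exists_normalizing T₁.isPGroup' hRT₁ {g | Quad p B g}
    (fun t _ d hd => Quad.conj hd t) hRgen hd₁ hd₁T hd₁R
  obtain ⟨a₂, ha₂, ha₂T, ha₂R, ha₂N⟩ := exists_normalizing T₂.isPGroup' hRT₂ {g | Quad p B g}
    (fun t _ d hd => Quad.conj hd t) hRgen hd₂ hd₂T hd₂R
  have ha₁' : Quad p B a₁ := ha₁
  have ha₂' : Quad p B a₂ := ha₂
  -- `a₂ ∉ H`
  have ha₂H : a₂ ∉ H := by
    intro ha₂H
    have hp2 : IsPGroup p ((T₂ : Subgroup G) ⊓ H : Subgroup G) := T₂.isPGroup'.to_le inf_le_left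
    obtain ⟨n, hn, hle⟩ := exists_conj_le_in (p := p) st.pS hSi
      (inf_le_right : (T₂ : Subgroup G) ⊓ H ≤ H) hp2
    have hle2 : (T₂ : Subgroup G) ⊓ H ≤ ((n⁻¹ • P : Sylow p G) : Subgroup G) := by
      rw [Sylow.coe_subgroup_smul]
      intro x hx
      have h1 : n * x * n⁻¹ ∈ (P : Subgroup G) := hle (conj_mem_map_conj hx n)
      have h2 := conj_mem_map_conj h1 n⁻¹
      have e : n⁻¹ * (n * x * n⁻¹) * n⁻¹⁻¹ = x := by group
      rw [e] at h2
      exact h2
    have hPH : ((n⁻¹ • P : Sylow p G) : Subgroup G) ≤ H := by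
      rw [Sylow.coe_subgroup_smul]
      rintro _ ⟨x, hx, rfl⟩
      exact mul_mem (mul_mem (inv_mem hn) (st.SH hx)) (inv_mem (inv_mem hn))
    have hRH : R ≤ (T₂ : Subgroup G) ⊓ H := le_inf hRT₂ (hRT₁.trans hT₁)
    exact hT₂ (key (n⁻¹ • P) T₂ hPH (hRH.trans hle2) hRT₂ a₂ ha₂' ha₂R (hle2 ⟨ha₂T, ha₂H⟩) ha₂T)
  -- the group `K₀`
  set K₀ := Subgroup.closure ({a₁, a₂} : Set G) with hK₀
  have ha₁K : a₁ ∈ K₀ := Subgroup.subset_closure (by simp)
  have ha₂K : a₂ ∈ K₀ := Subgroup.subset_closure (by simp)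
  have hKR : K₀ ≤ normalizer (R : Set G) := by
    rw [hK₀, closure_le]
    rintro x (rfl | hx)
    · exact ha₁N
    · rw [Set.mem_singleton_iff.1 hx]; exact ha₂N
  obtain ⟨P₀, haP, hPK, hPp, hPi⟩ := exists_sylow_in (p := p) (N := K₀) (D := zpowers a₁)
    (by rwa [zpowers_le]) (isPGroup_zpowers ha₁'.1)
  have ha₁P : a₁ ∈ P₀ := haP (mem_zpowers a₁)
  have hPRp : IsPGroup p (P₀ ⊔ R : Subgroup G) := hPp.to_sup_of_normal_right' hRp (hPK.trans hKR)
  obtain ⟨T', hT'⟩ := hPRp.exists_le_sylow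
  have hT'H : (T' : Subgroup G) ≤ H := key T₁ T' hT₁ hRT₁ (le_sup_right.trans hT') a₁ ha₁' ha₁R
    ha₁T (hT' (le_sup_left (b := R) ha₁P))
  have hP₀H : P₀ ≤ H := (le_sup_left.trans hT').trans hT'H
  have hN : ∀ x ∈ K₀, x ∈ normalizer (P₀ : Set G) → x ∈ H := by
    intro x hxK hxP
    refine hmemH T' x hT'H ?_
    have hx : (P₀ ⊔ R).map (MulAut.conj x).toMonoidHom = P₀ ⊔ R := by
      rw [Subgroup.map_sup, mem_normalizer_iff_map_conj.1 hxP,
        mem_normalizer_iff_map_conj.1 (hKR hxK)]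
    have hle : P₀ ⊔ R ≤ ((x • T' : Sylow p G) : Subgroup G) := by
      rw [Sylow.coe_subgroup_smul, ← hx]
      exact map_conj_mono hT' x
    exact key T₁ (x • T') hT₁ hRT₁ (le_sup_right.trans hle) a₁ ha₁' ha₁R ha₁T
      (hle (le_sup_left (b := R) ha₁P))
  -- the vector `y`
  have hy : ∃ y ∈ V, ∃ k ∈ K₀, (orderOf k).Coprime p ∧ k * y * k⁻¹ ≠ y := by
    by_contra hcon
    push Not at hcon
    apply ha₂H
    refine le_of_pprime hPK hPi hP₀H ?_ ha₂K
    intro x hx hcop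
    apply hNV
    apply centralizer_le_normalizer
    rw [mem_centralizer_iff]
    intro v hv
    exact (mul_inv_eq_iff_eq_mul.1 (hcon v hv x hx hcop)).symm
  obtain ⟨y, hyV, hmv⟩ := hy
  have hya : a₁ * y * a₁⁻¹ = y := by
    have h1 := htriv a₁ (hT₁ ha₁T) ha₁'
    exact conj_eq_of_mem_centralizer h1 hyV
  exact finish hp hlam st.pS hSi st.BH st.Bab st.Bexp ha₁' ha₂' (st.VB hyV) (st.VZ hyV) hya
    (K := K₀) rfl hmv hPK hPp hPi ha₁P hP₀H hN

end Cfsg.Agent.H219.CaseTwo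
end
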