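import Mathlib
import Cfsg.Agent.Lib.FrattiniPGroup
import Cfsg.Agent.Lib.GoldschmidtFusion
import Cfsg.Agent.H219.FConf
set_option linter.all false

-- part: H219/CycLift
section
/-!
A `p'`-element `x` acting on a `p`-group `Q` with an `x`-semi-invariant homomorphism `χ : Q → 𝔽_p`, `χ ≠ 0`,
normalizes a cyclic subgroup of `Q` on which `χ` is not zero.
-/

set_option autoImplicit false

namespace Cfsg.Agent.H219.CycLift

open Subgroup
open scoped commutatorElement
open Cfsg.Agent.Lib.GoldschmidtFusion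

variable {p : ℕ} [hpf : Fact p.Prime]

theorem abel_lift {A : Type*} [CommGroup A] [Finite A] (hA : IsPGroup p A) (φ : A →* A) (m : ℕ)
    (hm : ∀ a, φ^[m] a = a) (hpm : ¬ p ∣ m) (χ : A → ZMod p) (hχ1 : ∀ a b, χ (a * b) = χ a + χ b)
    (α : ZMod p) (hχ : ∀ a, χ (φ a) = α * χ a) (z : A) (hz : χ z ≠ 0) :
    ∃ (w : A) (l : ℕ), φ w = w ^ l ∧ χ w ≠ 0 := by
  classical
  have hχone : χ 1 = 0 := by
    have := hχ1 1 1
    rw [mul_one] at this
    exact left_eq_add.1 this
  have hχpow : ∀ (a : A) (k : ℕ), χ (a ^ k) = k * χ a := by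
    intro a k
    induction k with
    | zero => rw [pow_zero, hχone, Nat.cast_zero, zero_mul]
    | succ k ih => rw [pow_succ, hχ1, ih]; push_cast; ring
  have hχit : ∀ (i : ℕ) (a : A), χ (φ^[i] a) = α ^ i * χ a := by
    intro i
    induction i with
    | zero => intro a; rw [Function.iterate_zero, id, pow_zero, one_mul]
    | succ i ih => intro a; rw [Function.iterate_succ_apply', hχ, ih]; ring
  have hαm : α ^ m = 1 := by
    have h1 := hχit m z
    rw [hm] at h1
    have h2 : (α ^ m - 1) * χ z = 0 := by linear_combination -h1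
    rcases mul_eq_zero.1 h2 with h3 | h3
    · exact sub_eq_zero.1 h3
    · exact absurd h3 hz
  have hα0 : α ≠ 0 := by
    intro h0
    have hm0 : m ≠ 0 := fun h => hpm (by rw [h]; exact dvd_zero p)
    rw [h0, zero_pow hm0] at hαm
    exact zero_ne_one hαm
  obtain ⟨N, hN⟩ := IsPGroup.iff_card.1 hA
  have hexp : ∀ a : A, a ^ p ^ N = 1 := by
    intro a
    rw [← hN]
    exact pow_card_eq_one'
  set a₀ := α.val with ha₀
  have ha₀α : (a₀ : ZMod p) = α := ZMod.natCast_zmod_val α
  set l := a₀ ^ p ^ N with hl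
  have hlα : (l : ZMod p) = α := by
    rw [hl, Nat.cast_pow, ha₀α]
    exact ZMod.pow_card_pow α
  have hlm : ∀ a : A, a ^ l ^ m = a := by
    intro a
    have h1 : ((p : ℤ)) ∣ (a₀ : ℤ) ^ m - 1 := by
      rw [← ZMod.intCast_zmod_eq_zero_iff_dvd]
      push_cast
      rw [ha₀α, hαm, sub_self]
    have h2 := dvd_sub_pow_of_dvd_sub h1 N
    rw [one_pow, ← pow_mul, mul_comm m, pow_mul] at h2
    have h3 : ((p ^ N : ℕ) : ℤ) ∣ ((l ^ m : ℕ) : ℤ) - 1 := by
      push_cast
      refine dvd_trans ?_ h2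
      exact pow_dvd_pow _ (Nat.le_succ N)
    have h4 : a ^ (((l ^ m : ℕ) : ℤ) - 1) = 1 := by
      obtain ⟨c, hc⟩ := h3
      rw [hc, zpow_mul, zpow_natCast, hexp, one_zpow]
    rw [zpow_sub, zpow_natCast, zpow_one, mul_inv_eq_one] at h4
    exact h4
  let f : ℕ → A := fun j => (φ^[j] z) ^ l ^ (m - j)
  refine ⟨∏ i ∈ Finset.range m, (φ^[i] z) ^ l ^ (m - 1 - i), l, ?_, ?_⟩
  · rw [map_prod, ← Finset.prod_pow]
    have e1 : ∏ i ∈ Finset.range m, φ ((φ^[i] z) ^ l ^ (m - 1 - i)) =
        ∏ i ∈ Finset.range m, f (i + 1) := by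
      refine Finset.prod_congr rfl fun i _ => ?_
      change _ = (φ^[i + 1] z) ^ l ^ (m - (i + 1))
      rw [map_pow, Function.iterate_succ_apply']
      congr 2
      omega
    have e2 : ∏ i ∈ Finset.range m, ((φ^[i] z) ^ l ^ (m - 1 - i)) ^ l =
        ∏ i ∈ Finset.range m, f i := by
      refine Finset.prod_congr rfl fun i hi => ?_
      rw [Finset.mem_range] at hi
      change _ = (φ^[i] z) ^ l ^ (m - i)
      rw [← pow_mul, ← pow_succ]
      congr 2
      omega
    rw [e1, e2]
    have h1 := Finset.prod_range_succ f m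
    have h2 := Finset.prod_range_succ' f m
    have h3 : f 0 = z := by
      change (φ^[0] z) ^ l ^ (m - 0) = z
      rw [Function.iterate_zero, id, Nat.sub_zero, hlm]
    have h4 : f m = z := by
      change (φ^[m] z) ^ l ^ (m - m) = z
      rw [hm, Nat.sub_self, pow_zero, pow_one]
    rw [h1, h3, h4] at h2
    exact (mul_right_cancel h2).symm
  · have hχprod : ∀ (s : Finset ℕ) (g : ℕ → A), χ (∏ i ∈ s, g i) = ∑ i ∈ s, χ (g i) := by
      intro s g
      induction s using Finset.induction_on with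
      | empty => rw [Finset.prod_empty, Finset.sum_empty, hχone]
      | insert a s ha ih => rw [Finset.prod_insert ha, Finset.sum_insert ha, hχ1, ih]
    rw [hχprod]
    have h1 : ∀ i ∈ Finset.range m, χ ((φ^[i] z) ^ l ^ (m - 1 - i)) = α ^ (m - 1) * χ z := by
      intro i hi
      rw [Finset.mem_range] at hi
      rw [hχpow, hχit, Nat.cast_pow, hlα, ← mul_assoc, ← pow_add]
      congr 2
      omega
    rw [Finset.sum_congr rfl h1, Finset.sum_const, Finset.card_range, nsmul_eq_mul]
    refine mul_ne_zero ?_ (mul_ne_zero (pow_ne_zero _ hα0) hz)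
    rw [Ne, CharP.cast_eq_zero_iff (ZMod p) p]
    exact hpm

theorem cyc_lift {G : Type*} [Group G] [Finite G] {x : G} (hcop : (orderOf x).Coprime p)
    (χ : G → ZMod p) (α : ZMod p) (n : ℕ) :
    ∀ Q : Subgroup G, Nat.card Q ≤ n → IsPGroup p Q → x ∈ normalizer (Q : Set G) →
      (∀ q ∈ Q, ∀ q' ∈ Q, χ (q * q') = χ q + χ q') → (∀ q ∈ Q, χ (x * q * x⁻¹) = α * χ q) →
      (∃ q ∈ Q, χ q ≠ 0) → ∃ u ∈ Q, χ u ≠ 0 ∧ ∃ l : ℕ, x * u * x⁻¹ = u ^ l := by
  induction n with
  | zero =>
    intro Q hn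
    exact absurd hn (by have : 0 < Nat.card Q := Nat.card_pos; omega)
  | succ n ih =>
    intro Q hn hQ hx hadd hact hne
    have hxq : ∀ q : Q, x * q * x⁻¹ ∈ Q := fun q => (Subgroup.mem_normalizer_iff.1 hx q).1 q.2
    let φ : Q →* Q :=
      { toFun := fun q => ⟨x * q * x⁻¹, hxq q⟩
        map_one' := Subtype.ext (by simp)
        map_mul' := fun a b => Subtype.ext (by
          change x * ((a : G) * b) * x⁻¹ = x * a * x⁻¹ * (x * b * x⁻¹)
          group) }
    have hφit : ∀ (i : ℕ) (q : Q), ((φ^[i] q : Q) : G) = x ^ i * q * (x ^ i)⁻¹ := by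
      intro i
      induction i with
      | zero => intro q; simp
      | succ i ih =>
        intro q
        rw [Function.iterate_succ_apply']
        change x * ((φ^[i] q : Q) : G) * x⁻¹ = _
        rw [ih, pow_succ']
        group
    let χQ : Q →* Multiplicative (ZMod p) := MonoidHom.mk' (fun q => Multiplicative.ofAdd (χ q))
      (fun a b => by
        change Multiplicative.ofAdd (χ ((a : G) * b)) = _
        rw [hadd a a.2 b b.2]; rfl)
    let ψ : Abelianization Q →* Abelianization Q := Abelianization.map φ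
    have hψit : ∀ (i : ℕ) (q : Q), ψ^[i] (Abelianization.of q) = Abelianization.of (φ^[i] q) := by
      intro i
      induction i with
      | zero => intro q; rfl
      | succ i ih =>
        intro q
        rw [Function.iterate_succ_apply', ih, Function.iterate_succ_apply']
        rfl
    obtain ⟨q₀, hq₀, hχq₀⟩ := hne
    have hab : IsPGroup p (Abelianization Q) :=
      hQ.of_surjective (Abelianization.of : Q →* Abelianization Q) (QuotientGroup.mk_surjective)
    have hfin : Finite (Abelianization Q) :=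
      Finite.of_surjective (Abelianization.of : Q →* Abelianization Q) QuotientGroup.mk_surjective
    obtain ⟨wb, l, hwl, hw0⟩ := abel_lift (A := Abelianization Q) hab ψ (orderOf x)
      (by
        intro a
        obtain ⟨q, rfl⟩ := QuotientGroup.mk_surjective a
        change ψ^[orderOf x] (Abelianization.of q) = Abelianization.of q
        rw [hψit]
        congr 1
        apply Subtype.ext
        rw [hφit, pow_orderOf_eq_one]
        group)
      (by
        intro h
        have := (Nat.Prime.coprime_iff_not_dvd hpf.out).1 hcop.symm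
        exact this h)
      (fun a => Multiplicative.toAdd (Abelianization.lift χQ a))
      (by intro a b; rw [map_mul]; rfl) α
      (by
        intro a
        obtain ⟨q, rfl⟩ := QuotientGroup.mk_surjective a
        exact hact q q.2)
      (Abelianization.of ⟨q₀, hq₀⟩) hχq₀
    obtain ⟨w, rfl⟩ := QuotientGroup.mk_surjective wb
    have hw0' : χ w ≠ 0 := hw0
    have hwl' : (w ^ l)⁻¹ * φ w ∈ commutator Q := by
      rw [← QuotientGroup.eq]
      exact hwl.symm
    by_cases htop : zpowers w ⊔ commutator Q = ⊤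
    · -- `Q` is cyclic
      have h1 : zpowers w ⊔ frattini Q = ⊤ := by
        rw [eq_top_iff, ← htop]
        exact sup_le_sup_left (Lib.FrattiniPGroup.commutator_le_frattini hQ) _
      have h2 : zpowers w = ⊤ := frattini_nongenerating h1
      have h3 : φ w ∈ zpowers w := by rw [h2]; trivial
      rw [← mem_powers_iff_mem_zpowers] at h3
      obtain ⟨k, hk⟩ := h3
      refine ⟨w, w.2, hw0', k, ?_⟩
      have h4 := congrArg Subtype.val hk
      exact h4.symm
    · -- a proper invariant subgroup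
      set Q₁ : Subgroup G := (zpowers w ⊔ commutator Q).map Q.subtype with hQ₁
      have hQ₁Q : Q₁ ≤ Q := map_subtype_le _
      have hlt : Nat.card Q₁ < Nat.card Q := by
        have h1 : Nat.card Q₁ = Nat.card (zpowers w ⊔ commutator Q : Subgroup Q) :=
          (Nat.card_congr ((zpowers w ⊔ commutator Q).equivMapOfInjective _
            Q.subtype_injective).toEquiv).symm
        rw [h1]
        have h2 := (zpowers w ⊔ commutator Q).card_mul_index
        have h3 : (zpowers w ⊔ commutator Q).index ≠ 1 := by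
          rw [Ne, Subgroup.index_eq_one]; exact htop
        have h4 : 0 < (zpowers w ⊔ commutator Q).index := Nat.pos_of_ne_zero
          Subgroup.index_ne_zero_of_finite
        have h5 : 0 < Nat.card (zpowers w ⊔ commutator Q : Subgroup Q) := Nat.card_pos
        have h6 : 2 ≤ (zpowers w ⊔ commutator Q).index := by omega
        nlinarith
      have hwQ₁ : (w : G) ∈ Q₁ := ⟨w, le_sup_left (b := commutator Q) (mem_zpowers w), rfl⟩
      have hinv : ∀ q ∈ zpowers w ⊔ commutator Q, φ q ∈ zpowers w ⊔ commutator Q := by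
        intro q hq
        have h1 : zpowers w ⊔ commutator Q ≤ (zpowers w ⊔ commutator Q).comap φ := by
          refine sup_le ?_ ?_
          · rw [zpowers_le, mem_comap]
            have h2 : φ w = w ^ l * ((w ^ l)⁻¹ * φ w) := by group
            rw [h2]
            exact mul_mem (pow_mem (le_sup_left (b := commutator Q) (mem_zpowers w)) l)
              (le_sup_right (a := zpowers w) hwl')
          · rw [← Subgroup.map_le_iff_le_comap]
            refine le_trans ?_ le_sup_right
            rw [commutator_def, Subgroup.map_commutator]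
            exact Subgroup.commutator_mono le_top le_top
        exact h1 hq
      have hxQ₁ : x ∈ normalizer (Q₁ : Set G) := by
        rw [mem_normalizer_iff_map_conj]
        apply map_conj_le_of_le_normalizer
        rintro _ ⟨_, ⟨q, hq, rfl⟩, rfl⟩
        exact ⟨φ q, hinv q hq, rfl⟩
      obtain ⟨u, hu, hu0, k, hk⟩ := ih Q₁ (by omega) (hQ.to_le hQ₁Q) hxQ₁
        (fun q hq q' hq' => hadd q (hQ₁Q hq) q' (hQ₁Q hq')) (fun q hq => hact q (hQ₁Q hq))
        ⟨w, hwQ₁, hw0'⟩
      exact ⟨u, hQ₁Q hu, hu0, k, hk⟩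

end Cfsg.Agent.H219.CycLift
end

-- part: H219/RelIdx
section
/-!
The subgroup `C` of order `p` with full automizer.
-/

set_option autoImplicit false

namespace Cfsg.Agent.H219.RelIdx

open Subgroup
open Cfsg.Agent.Lib.GoldschmidtFusion
open Cfsg.Agent.H219.Conf Cfsg.Agent.H219.CycLift

variable {G : Type*} [Group G] [Finite G] {p : ℕ} [hpf : Fact p.Prime]

omit [Finite G] in
theorem conj_pow_iter {x c : G} {l : ℕ} (h : x * c * x⁻¹ = c ^ l) (j : ℕ) :
    x ^ j * c * (x ^ j)⁻¹ = c ^ l ^ j := by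
  induction j with
  | zero => simp
  | succ j ih =>
    have e : x ^ (j + 1) * c * (x ^ (j + 1))⁻¹ = x * (x ^ j * c * (x ^ j)⁻¹) * x⁻¹ := by
      rw [pow_succ']; group
    rw [e, ih, ← conj_pow, h, ← pow_mul, pow_succ']

theorem relIndex_eq {H : Subgroup G} {c x : G} (hc : orderOf c = p) (hx : x ∈ H) {l : ℕ}
    (hxc : x * c * x⁻¹ = c ^ l) (hl : orderOf (l : ZMod p) = p - 1) :
    (H ⊓ centralizer ((zpowers c : Subgroup G) : Set G)).relIndex
      (H ⊓ normalizer ((zpowers c : Subgroup G) : Set G)) = p - 1 := by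
  classical
  have hp1 : 1 < p := hpf.out.one_lt
  have hc1 : c ≠ 1 := by
    intro h
    rw [h, orderOf_one] at hc
    omega
  set N := H ⊓ normalizer ((zpowers c : Subgroup G) : Set G) with hN
  let act : MulAction N G := MulAction.compHom G ((MulAut.conj : G →* MulAut G).comp N.subtype)
  have hact : ∀ (n : N) (g : G), n • g = (n : G) * g * (n : G)⁻¹ := fun n g => rfl
  have hstab : MulAction.stabilizer N c =
      (H ⊓ centralizer ((zpowers c : Subgroup G) : Set G)).subgroupOf N := by
    ext n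
    rw [MulAction.mem_stabilizer_iff, hact, mem_subgroupOf]
    constructor
    · intro h
      refine ⟨n.2.1, ?_⟩
      refine mem_centralizer_iff.2 ?_
      intro d hd
      obtain ⟨k, rfl⟩ := Subgroup.mem_zpowers_iff.1 hd
      have h1 : (n : G) * c ^ k * (n : G)⁻¹ = c ^ k := by rw [← conj_zpow, h]
      exact (mul_inv_eq_iff_eq_mul.1 h1).symm
    · intro h
      have h1 := (mem_centralizer_iff.1 h.2) c (mem_zpowers c)
      rw [← h1, mul_inv_cancel_right]
  have hlu : IsUnit (l : ZMod p) := by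
    rw [isUnit_iff_ne_zero]
    intro h0
    rw [h0] at hl
    have h1 : orderOf (0 : ZMod p) = 0 := by
      rw [orderOf_eq_zero_iff, isOfFinOrder_iff_pow_eq_one]
      rintro ⟨n, hn, h⟩
      rw [zero_pow hn.ne'] at h
      exact zero_ne_one h
    omega
  have hxN : x ∈ N := by
    refine ⟨hx, ?_⟩
    change x ∈ normalizer ((zpowers c : Subgroup G) : Set G)
    rw [mem_normalizer_iff_map_conj]
    apply map_conj_le_of_le_normalizer
    rw [MonoidHom.map_zpowers, zpowers_le]
    change x * c * x⁻¹ ∈ zpowers c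
    rw [hxc]
    exact pow_mem (mem_zpowers c) l
  have horb : MulAction.orbit N c = ((zpowers c : Subgroup G) : Set G) \ {1} := by
    ext d
    constructor
    · rintro ⟨n, rfl⟩
      refine ⟨?_, ?_⟩
      · exact (Subgroup.mem_normalizer_iff.1 n.2.2 c).1 (mem_zpowers c)
      · intro h
        apply hc1
        have h1 : (n : G) * c * (n : G)⁻¹ = 1 := h
        exact conj_eq_one_iff.1 h1
    · rintro ⟨hd, hd1⟩
      have hd' : d ∈ zpowers c := hd
      rw [← mem_powers_iff_mem_zpowers] at hd'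
      obtain ⟨i, rfl⟩ := hd'
      have hi : (i : ZMod p) ≠ 0 := by
        intro h0
        rw [CharP.cast_eq_zero_iff (ZMod p) p] at h0
        apply hd1
        rw [Set.mem_singleton_iff]
        obtain ⟨k, rfl⟩ := h0
        change c ^ (p * k) = 1
        rw [pow_mul, ← hc, pow_orderOf_eq_one, one_pow]
      obtain ⟨j, hj⟩ : ∃ j : ℕ, (l : ZMod p) ^ j = i := by
        have h1 : orderOf hlu.unit = Nat.card (ZMod p)ˣ := by
          rw [← orderOf_units, IsUnit.unit_spec, hl, Nat.card_eq_fintype_card, ZMod.card_units]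
        have h2 : (isUnit_iff_ne_zero.2 hi).unit ∈ Submonoid.powers hlu.unit := by
          rw [mem_powers_iff_mem_zpowers]
          rw [Subgroup.eq_top_of_card_eq (zpowers hlu.unit) (by rw [Nat.card_zpowers, h1])]
          trivial
        obtain ⟨j, hj⟩ := h2
        refine ⟨j, ?_⟩
        have h3 := congrArg (fun u : (ZMod p)ˣ => (u : ZMod p)) hj
        simpa using h3
      refine ⟨⟨x ^ j, N.pow_mem hxN j⟩, ?_⟩
      change x ^ j * c * (x ^ j)⁻¹ = c ^ i
      rw [conj_pow_iter hxc, pow_eq_pow_iff_modEq, hc, ← ZMod.natCast_eq_natCast_iff, Nat.cast_pow]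
      exact hj
  have h1 : (MulAction.stabilizer N c).index = (MulAction.orbit N c).ncard :=
    MulAction.index_stabilizer N c
  rw [hstab, horb] at h1
  change ((H ⊓ centralizer ((zpowers c : Subgroup G) : Set G)).subgroupOf N).index = p - 1
  rw [h1, Set.ncard_sdiff_singleton_of_mem (one_mem (zpowers c))]
  congr 1
  have h2 : (((zpowers c : Subgroup G) : Set G)).ncard = Nat.card (zpowers c) := rfl
  rw [h2, Nat.card_zpowers, hc]

/-- The torus element can be taken of order prime to `p`. -/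
theorem exists_pprime {lam : ZMod p} {S M Z : Subgroup G} (h : FConf p lam S M Z) :
    ∃ (W Q : Subgroup G) (e1 e2 : G → ZMod p) (x : G), Core p lam W Q e1 e2 x ∧
      (orderOf x).Coprime p ∧ Q ≤ S ∧ x ∈ M ∧ ∃ z ∈ Z, z ∈ W ∧ e1 z = 1 ∧ e2 z = 0 := by
  obtain ⟨W, Q, e1, e2, x, hc, hQ, hx, hz⟩ := h
  obtain ⟨k, m, hm, hkm⟩ := Nat.exists_eq_pow_mul_and_not_dvd (orderOf_pos x).ne' p
    hpf.out.one_lt.ne'
  refine ⟨W, Q, e1, e2, x ^ p ^ k, ⟨hc.le, pow_mem hc.xQ _, pow_mem hc.xW _, hc.add, hc.sur, hc.act,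
    hc.ntr, ?_⟩, ?_, hQ, pow_mem hx _, hz⟩
  · have h1 : ∀ j : ℕ, ∀ w ∈ W, x ^ j * w * (x ^ j)⁻¹ ∈ W ∧
        e1 (x ^ j * w * (x ^ j)⁻¹) = lam ^ j * e1 w ∧
        e2 (x ^ j * w * (x ^ j)⁻¹) = (lam⁻¹) ^ j * e2 w := by
      intro j
      induction j with
      | zero => intro w hw; simpa using hw
      | succ j ih =>
        intro w hw
        obtain ⟨i1, i2, i3⟩ := ih w hw
        have e : x ^ (j + 1) * w * (x ^ (j + 1))⁻¹ = x * (x ^ j * w * (x ^ j)⁻¹) * x⁻¹ := by
          rw [pow_succ']; group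
        obtain ⟨t1, t2⟩ := hc.tor _ i1
        rw [e]
        refine ⟨(Subgroup.mem_normalizer_iff.1 hc.xW _).1 i1, ?_, ?_⟩
        · rw [t1, i2]; ring
        · rw [t2, i3]; ring
    intro w hw
    obtain ⟨-, h2, h3⟩ := h1 (p ^ k) w hw
    rw [ZMod.pow_card_pow] at h2 h3
    exact ⟨h2, h3⟩
  · rw [orderOf_pow_of_dvd (pow_ne_zero _ hpf.out.ne_zero) (by rw [hkm]; exact Dvd.intro _ rfl), hkm,
      Nat.mul_div_cancel_left _ (pow_pos hpf.out.pos _)]
    exact ((Nat.Prime.coprime_iff_not_dvd hpf.out).2 hm).symm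

/-- The subgroup `C`. -/
theorem exists_C {lam : ZMod p} (hlam : orderOf lam = p - 1) {S M Z : Subgroup G}
    (hS : IsPGroup p S) (hM : M ≤ normalizer (Z : Set G)) (h : FConf p lam S M Z) :
    ∃ C : Subgroup G, C ≤ Z ∧ Nat.card C = p ∧
      (M ⊓ centralizer (C : Set G)).relIndex (M ⊓ normalizer (C : Set G)) = p - 1 := by
  obtain ⟨W, Q, e1, e2, x, hc, hcop, hQ, hx, z, hz, hzW, hz1, hz2⟩ := exists_pprime h
  have hWp : IsPGroup p W := hS.to_le (hc.le.trans hQ)
  have hxA : x ∈ normalizer ((Z ⊓ W : Subgroup G) : Set G) := by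
    rw [mem_normalizer_iff_map_conj, Subgroup.map_inf _ _ _ (MulAut.conj x).injective,
      mem_normalizer_iff_map_conj.1 (hM hx), mem_normalizer_iff_map_conj.1 hc.xW]
  obtain ⟨u, hu, hu0, l, hl⟩ := cyc_lift hcop e1 lam (Nat.card (Z ⊓ W : Subgroup G)) (Z ⊓ W) le_rfl
    (hWp.to_le inf_le_right) hxA (fun q hq q' hq' => (hc.add q hq.2 q' hq'.2).1)
    (fun q hq => (hc.tor q hq.2).1) ⟨z, ⟨hz, hzW⟩, by rw [hz1]; exact one_ne_zero⟩
  have hadd : ∀ k : ℕ, e1 (u ^ k) = k * e1 u := by
    intro k
    induction k with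
    | zero =>
      have h1 := (hc.add 1 W.one_mem 1 W.one_mem).1
      rw [mul_one] at h1
      rw [pow_zero, Nat.cast_zero, zero_mul]
      exact left_eq_add.1 h1
    | succ k ih =>
      rw [pow_succ, (hc.add _ (W.pow_mem hu.2 k) _ hu.2).1, ih]
      push_cast; ring
  have hlam' : (l : ZMod p) = lam := by
    have h1 := (hc.tor u hu.2).1
    rw [hl, hadd] at h1
    exact mul_right_cancel₀ hu0 h1
  have hu1 : u ≠ 1 := by
    intro h1
    apply hu0
    have h2 := hadd 0
    rw [pow_zero, Nat.cast_zero, zero_mul] at h2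
    rw [h1, h2]
  have hpu : p ∣ orderOf u := by
    obtain ⟨n, hn⟩ := (IsPGroup.iff_orderOf.1 hWp) ⟨u, hu.2⟩
    rw [Subgroup.orderOf_mk] at hn
    rcases Nat.eq_zero_or_pos n with h0 | h0
    · rw [h0, pow_zero, orderOf_eq_one_iff] at hn
      exact absurd hn hu1
    · rw [hn]; exact dvd_pow_self p h0.ne'
  obtain ⟨m, hm⟩ := hpu
  have hm0 : m ≠ 0 := by
    intro h0
    rw [h0, mul_zero] at hm
    exact (orderOf_pos u).ne' hm
  set c := u ^ m with hcdef
  have hco : orderOf c = p := by
    rw [hcdef, orderOf_pow_of_dvd hm0 (by rw [hm]; exact Dvd.intro_left _ rfl), hm,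
      Nat.mul_div_cancel _ (Nat.pos_of_ne_zero hm0)]
  have hcZ : c ∈ Z := Z.pow_mem hu.1 m
  refine ⟨zpowers c, by rwa [zpowers_le], by rw [Nat.card_zpowers, hco], ?_⟩
  refine relIndex_eq hco hx (l := l) ?_ (by rw [hlam', hlam])
  rw [hcdef, ← conj_pow, hl, ← pow_mul, ← pow_mul, mul_comm]

end Cfsg.Agent.H219.RelIdx
end
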