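import Cfsg.Agent.H219.Red
import Cfsg.Agent.PLocal.OffenderStep
set_option linter.all false

-- part: H219/RedTwo
section
/-!
The case `G = C_G(O_p(G)) S` of the relative fusion theorem.
-/

set_option autoImplicit false

namespace Cfsg.Agent.H219.RedTwo

open Subgroup Cfsg
open scoped Pointwise commutatorElement
open Cfsg.Agent.PLocal
open Cfsg.Agent.Lib.GoldschmidtFusion
open Cfsg.Agent.Walter.GlaubermanFusion
open Cfsg.Agent.H219.Conf Cfsg.Agent.H219.Red

variable {G : Type*} [Group G] {p : ℕ} {lam : ZMod p} {S Z : Subgroup G}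

/-- If conjugation by `m ∈ N(Q)` on `Q` is induced by an element of `N(Z)` then `m` normalizes `Z ∩ Q`. -/
theorem mem_normalizer_inf {Q : Subgroup G} {m : G} (hm : m ∈ normalizer (Q : Set G))
    (h : Good (normalizer (Z : Set G)) Q m) : m ∈ normalizer ((Z ⊓ Q : Subgroup G) : Set G) := by
  obtain ⟨n, hn, c, hc, rfl⟩ := h
  have hnQ : n ∈ normalizer (Q : Set G) := by
    have h1 := mul_mem hm (inv_mem (centralizer_le_normalizer (Q : Set G) hc))
    rwa [mul_inv_cancel_right] at h1
  have h1 : n ∈ normalizer ((Z ⊓ Q : Subgroup G) : Set G) := by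
    rw [mem_normalizer_iff_map_conj, Subgroup.map_inf _ _ _ (MulAut.conj n).injective,
      mem_normalizer_iff_map_conj.1 hn, mem_normalizer_iff_map_conj.1 hnQ]
  have h2 : c ∈ normalizer ((Z ⊓ Q : Subgroup G) : Set G) := by
    apply centralizer_le_normalizer
    exact centralizer_le (show ((Z ⊓ Q : Subgroup G) : Set G) ⊆ (Q : Set G) from
      fun x hx => hx.2) hc
  exact mul_mem h1 h2

variable [Finite G] [hpf : Fact p.Prime]

theorem step_two (IH : ∀ K : Subgroup G, K ≠ ⊤ → RT p lam K) (hq : RT p lam (G ⧸ pCore p G))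
    (h : Hyp p S Z) (hCP : centralizer (pCore p G : Set G) ⊔ S = ⊤) :
    Ctl S (normalizer (Z : Set G)) ∨ FConf p lam S (normalizer (Z : Set G)) Z := by
  by_cases hF : FConf p lam S (normalizer (Z : Set G)) Z
  · exact Or.inr hF
  left
  set Y := pCore p G with hY
  have hYn : Y.Normal := Lib.Cores.pCore_normal p
  have hYp : IsPGroup p Y := Lib.Cores.pCore_isPGroup p
  have hYS : Y ≤ S := by
    have h1 := Lib.Cores.pCore_le_sylow (h.pS.toSylow h.syl)
    exact h1
  by_cases hSY : S = Y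
  · apply ctl_of_top
    have htop : normalizer (S : Set G) = ⊤ := by
      rw [hSY]; exact normalizer_eq_top_iff.2 hYn
    rw [eq_top_iff, ← htop]
    exact (ThompsonJA.normalizer_le_normalizer_centerThompsonAOf S).trans h.nn
  by_cases hZY : Z ≤ Y
  · apply ctl_of_top
    rw [eq_top_iff, ← hCP]
    refine sup_le ?_ h.le_norm
    exact (centralizer_le (by exact_mod_cast hZY)).trans (centralizer_le_normalizer _)
  set φ := QuotientGroup.mk' Y with hφ
  have hφs : Function.Surjective φ := QuotientGroup.mk'_surjective Y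
  have hker : φ.ker = Y := QuotientGroup.ker_mk' Y
  have hφ1 : ∀ y ∈ Y, φ y = 1 := fun y hy => by
    rw [← MonoidHom.mem_ker, hker]; exact hy
  set Sb := S.map φ with hSb
  have hSbp : IsPGroup p Sb := h.pS.map φ
  set ZJb := centerThompsonAOf Sb with hZJb
  set Q := ZJb.comap φ with hQ
  have hcomapS : Sb.comap φ = S := by
    rw [hSb, comap_map_eq, hker, sup_eq_left.2 hYS]
  have hQS : Q ≤ S := by
    rw [← hcomapS]
    exact comap_mono (ThompsonJA.centerThompsonAOf_le _)
  have hNQ : (normalizer (ZJb : Set (G ⧸ Y))).comap φ = normalizer (Q : Set G) :=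
    comap_normalizer_eq_of_surjective ZJb hφs
  have hQtop : normalizer (Q : Set G) ≠ ⊤ := by
    intro htop
    have hn : Q.Normal := normalizer_eq_top_iff.1 htop
    have hle : Q ≤ Y := Lib.Cores.le_pCore hn (h.pS.to_le hQS)
    have hZb : ZJb = ⊥ := by
      rw [eq_bot_iff]
      intro z hz
      obtain ⟨x, rfl⟩ := hφs z
      rw [mem_bot]
      exact hφ1 x (hle hz)
    have hPb1 : Sb = ⊥ := by
      by_contra hne
      exact ThompsonJA.centerThompsonAOf_ne_bot _ hSbp hne hZb
    apply hSY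
    refine le_antisymm ?_ hYS
    intro x hx
    have h1 : φ x ∈ Sb := ⟨x, hx, rfl⟩
    rw [hPb1, mem_bot] at h1
    rw [← hker]; exact h1
  have hSNQ : S ≤ normalizer (Q : Set G) := by
    intro x hx
    rw [← hNQ]
    exact ThompsonJA.normalizer_le_normalizer_centerThompsonAOf _
      (le_normalizer (show φ x ∈ Sb from ⟨x, hx, rfl⟩))
  -- `N(Q)` normalizes `Z₁ = Z ∩ Q`
  set Z₁ := Z ⊓ Q with hZ₁
  have hNZ₁ : normalizer (Q : Set G) ≤ normalizer (Z₁ : Set G) := by
    intro m hm
    refine mem_normalizer_inf hm (good_of_proper IH h hF hQtop hSNQ hQS hm ?_)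
    rw [mem_normalizer_iff_map_conj.1 hm]
    exact hQS
  set Zb := Z₁.map φ with hZb
  have hZbJ : Zb ≤ ZJb := by
    rintro _ ⟨z, hz, rfl⟩
    exact hz.2
  have hyp : Hyp p Sb Zb := by
    refine ⟨hSbp, ?_, hZbJ, ?_⟩
    · intro hd
      exact h.syl (hd.trans (S.index_map_dvd hφs))
    · intro nb hnb
      obtain ⟨n, rfl⟩ := hφs nb
      have hn : n ∈ normalizer (Q : Set G) := by rw [← hNQ]; exact hnb
      exact Subgroup.le_normalizer_map φ ⟨n, hNZ₁ hn, rfl⟩
  set H := normalizer ((Zb.comap φ : Subgroup G) : Set G) with hHdef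
  have hHc : (normalizer (Zb : Set (G ⧸ Y))).comap φ = H := comap_normalizer_eq_of_surjective Zb hφs
  have hSH : S ≤ H := by
    intro x hx
    rw [← hHc]
    exact hyp.le_norm ⟨x, hx, rfl⟩
  have hVS : Zb.comap φ ≤ S := by
    rw [← hcomapS]
    exact comap_mono hyp.le
  have hH : H ≠ ⊤ := by
    intro htop
    have hn : (Zb.comap φ).Normal := normalizer_eq_top_iff.1 htop
    have hle : Zb.comap φ ≤ Y := Lib.Cores.le_pCore hn (h.pS.to_le hVS)
    -- a nontrivial fixed point of `Sb` on `Z.map φ`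
    have hne : Z.map φ ≠ ⊥ := by
      intro hb
      apply hZY
      intro z hz
      have h1 : φ z ∈ Z.map φ := ⟨z, hz, rfl⟩
      rw [hb, mem_bot] at h1
      rw [← hker]; exact h1
    have hZp : IsPGroup p (Z.map φ) := (h.pS.to_le h.le).map φ
    have hSN : Sb ≤ normalizer ((Z.map φ : Subgroup (G ⧸ Y)) : Set (G ⧸ Y)) := by
      rintro _ ⟨s, hs, rfl⟩
      exact Subgroup.le_normalizer_map φ ⟨s, h.le_norm hs, rfl⟩
    have h1 := PLocal.OffenderStep.inf_centralizer_ne_bot (p := p) (Z.map φ) Sb hZp hSbp hSN hne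
    obtain ⟨⟨zb, hzb1, hzb2⟩, hzb3⟩ := (Subgroup.ne_bot_iff_exists_ne_one).1 h1
    obtain ⟨z, hz, rfl⟩ := hzb1
    have h2 : φ z ∈ ZJb := ThompsonJA.inf_centralizer_le_centerThompsonAOf Sb
      ⟨⟨z, h.le hz, rfl⟩, hzb2⟩
    have h3 : z ∈ Z₁ := ⟨hz, h2⟩
    have h4 : z ∈ Y := hle (show φ z ∈ Zb from ⟨z, h3, rfl⟩)
    exact hzb3 (Subtype.ext (hφ1 z h4))
  rcases hq Sb Zb hyp with hq' | hq'
  swap
  · exfalso
    apply hF
    have h1 : FConf p lam (Sb.comap φ) ((normalizer (Zb : Set (G ⧸ Y))).comap φ) Z₁ :=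
      hq'.comap hφs le_rfl
    rw [hHc, hcomapS] at h1
    refine (h1.mono le_rfl le_rfl (inf_le_left : Z₁ ≤ Z)).transfer ?_
    intro R hR x hx hxR
    refine good_of_proper IH h hF hH hSH hR hx ?_
    rw [mem_normalizer_iff_map_conj.1 hxR]
    exact hR
  -- elements of order prime to `p` centralize `Y`
  have hpprime : ∀ x : G, (orderOf x).Coprime p → x ∈ centralizer (Y : Set G) := by
    intro x hx
    have hCn : (centralizer (Y : Set G)).Normal := by infer_instance
    set ψ := QuotientGroup.mk' (centralizer (Y : Set G)) with hψ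
    have hψs : Function.Surjective ψ := QuotientGroup.mk'_surjective _
    have hpg : IsPGroup p (G ⧸ centralizer (Y : Set G)) := by
      have h1 : S.map ψ = ⊤ := by
        have h2 := congrArg (Subgroup.map ψ) hCP
        rw [Subgroup.map_sup, Subgroup.map_top_of_surjective ψ hψs,
          (Subgroup.map_eq_bot_iff _).2 (by rw [QuotientGroup.ker_mk']), bot_sup_eq] at h2
        exact h2
      have h3 : IsPGroup p (⊤ : Subgroup (G ⧸ centralizer (Y : Set G))) := by
        rw [← h1]; exact h.pS.map ψ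
      exact h3.of_equiv Subgroup.topEquiv
    have h4 : orderOf (ψ x) = 1 := by
      obtain ⟨k, hk⟩ := (IsPGroup.iff_orderOf.1 hpg) (ψ x)
      have h5 : orderOf (ψ x) ∣ orderOf x := orderOf_map_dvd ψ x
      have h6 : (orderOf (ψ x)).Coprime (p ^ k) :=
        Nat.Coprime.pow_right k (Nat.Coprime.coprime_dvd_left h5 hx)
      rw [hk] at h6 ⊢
      exact (Nat.coprime_self _).1 h6
    rw [orderOf_eq_one_iff] at h4
    exact (QuotientGroup.eq_one_iff x).1 h4
  -- main claim: fully normalized target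
  have claim : ∀ A' : Subgroup G, Y ≤ A' → A' ≤ S → ∀ (g' : G) (B : Subgroup G),
      A'.map (MulAut.conj g').toMonoidHom = B → B ≤ S →
      ¬ p ∣ (S ⊓ normalizer (B : Set G)).relIndex (normalizer (B : Set G)) →
      Good H A' g' := by
    intro A' hYA hA'P g' B hgB hBP hBi
    have hYB : Y ≤ B := by
      rw [← hgB]
      intro y hy
      rw [mem_map_conj]
      have h1 := hYn.conj_mem y hy g'⁻¹
      rw [inv_inv] at h1
      exact hYA h1
    have hmapc : ∀ (x : G) (X : Subgroup G), (X.map φ).map (MulAut.conj (φ x)).toMonoidHom =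
        (X.map (MulAut.conj x).toMonoidHom).map φ := by
      intro x X
      rw [Subgroup.map_map, Subgroup.map_map]
      congr 1
    have e1 : (A'.map φ).map (MulAut.conj (φ g')).toMonoidHom = B.map φ := by
      rw [hmapc, hgB]
    obtain ⟨n', hn', c', hc', hgc⟩ := hq' (A'.map φ) (map_mono hA'P) (φ g')
      (by rw [e1]; exact map_mono hBP)
    obtain ⟨n, rfl⟩ := hφs n'
    have hnH : n ∈ H := by rw [← hHc]; exact hn'
    -- `n A' n⁻¹ = B`
    have hcA : (A'.map φ).map (MulAut.conj c').toMonoidHom = A'.map φ :=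
      map_conj_of_mem_centralizer hc'
    have e2 : (A'.map (MulAut.conj n).toMonoidHom).map φ = B.map φ := by
      rw [← e1, hgc, ← map_conj_map_conj, hcA, hmapc]
    have hYnA : Y ≤ A'.map (MulAut.conj n).toMonoidHom := by
      intro y hy
      rw [mem_map_conj]
      have h1 := hYn.conj_mem y hy n⁻¹
      rw [inv_inv] at h1
      exact hYA h1
    have e3 : A'.map (MulAut.conj n).toMonoidHom = B := by
      have h1 := congrArg (Subgroup.comap φ) e2
      rw [comap_map_eq, comap_map_eq, hker, sup_eq_left.2 hYnA, sup_eq_left.2 hYB] at h1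
      exact h1
    set k := g' * n⁻¹ with hk
    set X₀ := (centralizer ((B.map φ : Subgroup (G ⧸ Y)) : Set (G ⧸ Y))).comap φ with hX₀
    have hmemX : ∀ x : G, x ∈ X₀ ↔ ∀ b ∈ B, φ b * φ x = φ x * φ b := by
      intro x
      rw [hX₀, mem_comap, mem_centralizer_iff]
      constructor
      · intro hx b hb; exact hx (φ b) ⟨b, hb, rfl⟩
      · rintro hx _ ⟨b, hb, rfl⟩; exact hx b hb
    have hhX : k ∈ X₀ := by
      rw [hmemX]
      intro b hb
      rw [← e3, mem_map_conj] at hb
      have h1 : φ (n⁻¹ * b * n) ∈ A'.map φ := ⟨_, hb, rfl⟩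
      have h2 := mem_centralizer_iff.1 hc' _ h1
      have h3 : φ k = φ n * c' * (φ n)⁻¹ := by rw [hk, map_mul, hgc, map_inv]
      have h4 : φ b = φ n * φ (n⁻¹ * b * n) * (φ n)⁻¹ := by
        rw [map_mul, map_mul, map_inv]; group
      rw [h3, h4]
      have h5 : φ n * φ (n⁻¹ * b * n) * (φ n)⁻¹ * (φ n * c' * (φ n)⁻¹) =
          φ n * (φ (n⁻¹ * b * n) * c') * (φ n)⁻¹ := by group
      rw [h5, h2]
      group
    have hXN : X₀ ≤ normalizer (B : Set G) := by
      intro x hx
      rw [mem_normalizer_iff_map_conj]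
      apply map_conj_le_of_le_normalizer
      rw [map_conj_le_iff]
      intro b hb
      have h1 := (hmemX x).1 hx b hb
      have h2 : x * b * x⁻¹ * b⁻¹ ∈ Y := by
        rw [← hker, MonoidHom.mem_ker, map_mul, map_mul, map_mul, ← h1, map_inv, map_inv]
        group
      have h3 := B.mul_mem (hYB h2) hb
      simpa using h3
    have hNX : normalizer (B : Set G) ≤ normalizer (X₀ : Set G) := by
      rw [le_normalizer_iff]
      intro m hm x hx
      rw [hmemX]
      intro b hb
      have hb' : m⁻¹ * b * m ∈ B := by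
        rw [← mem_normalizer_iff_map_conj.1 hm, mem_map_conj] at hb
        exact hb
      have h1 := (hmemX x).1 hx _ hb'
      rw [map_mul, map_mul, map_inv] at h1
      rw [map_mul, map_mul, map_inv]
      have h2 : φ b * (φ m * φ x * (φ m)⁻¹) = φ m * ((φ m)⁻¹ * φ b * φ m * φ x) * (φ m)⁻¹ := by
        group
      rw [h2, h1]
      group
    have hXi := not_dvd_relIndex_inf hXN hNX hBi
    have hCX : centralizer (B : Set G) ≤ X₀ := by
      intro x hx
      rw [hmemX]
      intro b hb
      rw [← map_mul, ← map_mul, (mem_centralizer_iff.1 hx) b hb]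
    have hXC : X₀ ≤ normalizer ((centralizer (B : Set G) : Subgroup G) : Set G) := by
      refine hXN.trans ?_
      rw [le_normalizer_iff]
      intro m hm k hk
      rw [← mem_normalizer_iff_map_conj.1 hm, mem_centralizer_map_conj]
      simpa [mul_assoc] using hk
    obtain ⟨s, hs, c, hc, hsc⟩ := exists_mul_of_pprime_mem (p := p) inf_le_right hXi hCX hXC (by
      intro x hx hxo
      refine mem_centralizer_of_comm fun b hb => ?_
      have hxY := hpprime x hxo
      have h1 : ⁅b, x⁆ ∈ Y := by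
        rw [← hker, MonoidHom.mem_ker, map_commutatorElement, commutatorElement_eq_one_iff_mul_comm]
        exact (hmemX x).1 hx b hb
      have hcard : (orderOf x).Coprime (Nat.card Y) := by
        obtain ⟨k, hk⟩ := IsPGroup.iff_card.mp hYp
        rw [hk]; exact Nat.Coprime.pow_right k hxo
      exact Lib.CoprimeStab.commute_of_commutator_commute hcard h1
        ((mem_centralizer_iff.1 hxY) _ h1)) hhX
    have hgh : g' = k * n := by rw [hk]; group
    rw [hgh]
    refine (Good.of_mem hnH).mul ?_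
    rw [e3, hsc]
    refine (Good.of_cent hc).mul ?_
    exact Good.of_mem (hSH hs.1.1)
  intro A hA g hg
  refine good_of_good IH h hF hH hSH hA hg ?_
  -- reduce to the claim
  have hA1P : A ⊔ Y ≤ S := sup_le hA hYS
  have hYg : ∀ x : G, Y.map (MulAut.conj x).toMonoidHom = Y := fun x =>
    mem_normalizer_iff_map_conj.1 (by rw [normalizer_eq_top_iff.2 hYn]; trivial)
  have hgA1 : (A ⊔ Y).map (MulAut.conj g).toMonoidHom ≤ S := by
    rw [Subgroup.map_sup, hYg]
    exact sup_le hg hYS
  obtain ⟨k, hk, hki⟩ := exists_fullyNormalized (h.pS.toSylow h.syl) hgA1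
  change _ ≤ S at hk
  have hYgA : Y ≤ (A ⊔ Y).map (MulAut.conj g).toMonoidHom := by
    rw [Subgroup.map_sup, hYg]; exact le_sup_right
  have g1 : Good H ((A ⊔ Y).map (MulAut.conj g).toMonoidHom) k := claim _ hYgA hgA1 k _ rfl hk hki
  have g2 : Good H (A ⊔ Y) (k * g) := claim _ le_sup_right hA1P (k * g) _
    (by rw [map_conj_map_conj]) hk hki
  have g3 := g2.mul (h := k⁻¹) (by
    have := g1.symm
    rwa [map_conj_map_conj] at this)
  have e : k⁻¹ * (k * g) = g := by group
  rw [e] at g3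
  exact g3.mono le_sup_left

end Cfsg.Agent.H219.RedTwo
end

-- part: H219/RedCent
section
/-!
The case `C_G(O_p(G)) S < G` of the relative fusion theorem, up to the case `C_G(O_p(G)) ≤ O_p(G)`.
-/

set_option autoImplicit false

namespace Cfsg.Agent.H219.RedCent

open Subgroup Cfsg
open scoped Pointwise commutatorElement
open Cfsg.Agent.PLocal
open Cfsg.Agent.Lib.GoldschmidtFusion
open Cfsg.Agent.Walter.GlaubermanFusion
open Cfsg.Agent.H219.Conf Cfsg.Agent.H219.Red

variable {G : Type*} [Group G] [Finite G] {p : ℕ} [hpf : Fact p.Prime] {lam : ZMod p}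
  {S Z : Subgroup G}

theorem step_cent (IH : ∀ K : Subgroup G, K ≠ ⊤ → RT p lam K) (hO : pPrimeCore p G = ⊥)
    (h : Hyp p S Z) (hCP : centralizer (pCore p G : Set G) ⊔ S ≠ ⊤) :
    (Ctl S (normalizer (Z : Set G)) ∨ FConf p lam S (normalizer (Z : Set G)) Z) ∨
      centralizer (pCore p G : Set G) ≤ pCore p G := by
  by_cases hF : FConf p lam S (normalizer (Z : Set G)) Z
  · exact Or.inl (Or.inr hF)
  set Y := pCore p G with hY
  have hYn : Y.Normal := Lib.Cores.pCore_normal p
  have hYp : IsPGroup p Y := Lib.Cores.pCore_isPGroup p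
  have hYS : Y ≤ S := Lib.Cores.pCore_le_sylow (h.pS.toSylow h.syl)
  set C := centralizer (Y : Set G) with hC
  have hCn : C.Normal := by rw [hC]; infer_instance
  set E := S ⊓ C with hE
  have hEC : E ≤ C := inf_le_right
  have hES : E ≤ S := inf_le_left
  have hEp : IsPGroup p E := h.pS.to_le hES
  have hEi : ¬ p ∣ E.relIndex C := by
    rw [hE, inf_relIndex_right]
    intro hd
    exact h.syl (hd.trans (relIndex_dvd_index_of_normal_right _ _))
  set N := normalizer (E : Set G) with hN
  have hSN : S ≤ N := by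
    rw [hN, le_normalizer_iff]
    intro x hx e he
    exact ⟨S.mul_mem (S.mul_mem hx he.1) (S.inv_mem hx), hCn.conj_mem e he.2 x⟩
  by_cases hNtop : N = ⊤
  · right
    have hEn : E.Normal := normalizer_eq_top_iff.1 hNtop
    have hEY : E ≤ Y := Lib.Cores.le_pCore hEn hEp
    have h1 : C ≤ E := Constrained.eq_of_central_of_coprime (p := p) hO hCn hEp hEC
      (fun z hz y hy => (mem_centralizer_iff.1 hy) z (hEY hz))
      ((Nat.Prime.coprime_iff_not_dvd hpf.out).2 hEi).symm
    exact h1.trans hEY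
  left; left
  intro A hA g hg
  -- Frattini: `G = N C`
  have hFr : ∀ x : G, ∃ m ∈ N, ∃ c ∈ C, x = m * c := by
    have hE' : IsPGroup p (E.subgroupOf C) := hEp.comap_of_injective C.subtype C.subtype_injective
    let Q : Sylow p C := hE'.toSylow hEi
    have hQ : (Q : Subgroup C).map C.subtype = E := by
      show (E.subgroupOf C).map C.subtype = E
      rw [subgroupOf_map_subtype, inf_eq_left.2 hEC]
    have h1 := Sylow.normalizer_sup_eq_top Q
    rw [hQ] at h1
    intro x
    have h2 : x ∈ N ⊔ C := by rw [h1]; trivial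
    rw [mem_sup_of_normal_right] at h2
    obtain ⟨m, hm, c, hc, hmc⟩ := h2
    exact ⟨m, hm, c, hc, hmc.symm⟩
  obtain ⟨m, hm, c, hc, hgmc⟩ := hFr g
  -- `A E` is Sylow in `A C`
  have hAN : A ≤ N := hA.trans hSN
  have hAEp : IsPGroup p (A ⊔ E : Subgroup G) := h.pS.to_le (sup_le hA hES)
  have hAEC : (A ⊔ E) ⊔ C = A ⊔ C := by rw [sup_assoc, sup_eq_right.2 hEC]
  have hAECinf : (A ⊔ E) ⊓ C = E := by
    apply le_antisymm
    · exact le_inf (inf_le_left.trans (sup_le hA hES)) inf_le_right
    · exact le_inf le_sup_right hEC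
  have hAEi : ¬ p ∣ (A ⊔ E).relIndex (A ⊔ C) := by
    have h1 := card_sup_mul_card_inf (A := A ⊔ E) (L := C)
      (by rw [normalizer_eq_top_iff.2 hCn]; exact le_top)
    rw [hAEC, hAECinf] at h1
    rw [← card_mul_relIndex_of_le (sup_le_sup_left hEC A : A ⊔ E ≤ A ⊔ C),
      ← card_mul_relIndex_of_le hEC, mul_assoc] at h1
    have h2 := Nat.eq_of_mul_eq_mul_left Nat.card_pos h1
    rw [mul_comm] at h2
    have h3 := Nat.eq_of_mul_eq_mul_left Nat.card_pos h2
    rw [h3]; exact hEi
  -- conjugate `c A c⁻¹` into `A E` inside `N ∩ A C`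
  have hcA : A.map (MulAut.conj c).toMonoidHom ≤ (A ⊔ C) ⊓ N := by
    rw [map_conj_le_iff]
    intro a ha
    refine ⟨?_, ?_⟩
    · change c * a * c⁻¹ ∈ A ⊔ C
      exact mul_mem (mul_mem (le_sup_right (a := A) hc) (le_sup_left (b := C) ha))
        (inv_mem (le_sup_right (a := A) hc))
    · have h1 : g * a * g⁻¹ ∈ N := hSN ((map_conj_le_iff.1 hg) a ha)
      have h2 := N.mul_mem (N.mul_mem (N.inv_mem hm) h1) hm
      have e : m⁻¹ * (g * a * g⁻¹) * m = c * a * c⁻¹ := by rw [hgmc]; group
      rw [e] at h2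
      exact h2
  have hAi2 : ¬ p ∣ (A ⊔ E).relIndex ((A ⊔ C) ⊓ N) := by
    intro hd
    apply hAEi
    rw [← relIndex_mul_relIndex (A ⊔ E) ((A ⊔ C) ⊓ N) (A ⊔ C)
      (le_inf (sup_le_sup_left hEC A) (sup_le hAN le_normalizer)) inf_le_left]
    exact hd.mul_right _
  obtain ⟨k, hk, hkle⟩ := exists_conj_le_in (p := p) hAEp hAi2 hcA
    ((h.pS.to_le hA).map _)
  obtain ⟨a₁, ha₁, c₁, hc₁, hkac⟩ : ∃ a₁ ∈ A, ∃ c₁ ∈ C, k = a₁ * c₁ := by
    have h1 := hk.1
    change k ∈ A ⊔ C at h1
    rw [mem_sup_of_normal_right] at h1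
    obtain ⟨a₁, ha₁, c₁, hc₁, h⟩ := h1
    exact ⟨a₁, ha₁, c₁, hc₁, h.symm⟩
  have hc₁N : c₁ ∈ N := by
    have hkN : k ∈ N := hk.2
    have h1 := N.mul_mem (N.inv_mem (hAN ha₁)) hkN
    rw [hkac, inv_mul_cancel_left] at h1
    exact h1
  set c' := c₁ * c with hc'
  have hc'C : c' ∈ C := C.mul_mem hc₁ hc
  set m' := m * c₁⁻¹ with hm'
  have hm'N : m' ∈ N := N.mul_mem hm (N.inv_mem hc₁N)
  have hgm' : g = m' * c' := by rw [hgmc, hm', hc']; group
  have hAc' : A.map (MulAut.conj c').toMonoidHom ≤ S := by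
    rw [map_conj_map_conj, map_conj_le_iff] at hkle
    rw [map_conj_le_iff]
    intro a ha
    have h1 := (sup_le hA hES : A ⊔ E ≤ S) (hkle a ha)
    have h2 := S.mul_mem (S.mul_mem (S.inv_mem (hA ha₁)) h1) (hA ha₁)
    have e : a₁⁻¹ * (k * c * a * (k * c)⁻¹) * a₁ = c' * a * c'⁻¹ := by
      rw [hkac, hc']; group
    rwa [e] at h2
  -- first step: `c' ∈ C S < G`
  have good1 : Good (normalizer (Z : Set G)) A c' :=
    good_of_proper IH h hF hCP le_sup_right hA (le_sup_left (b := S) hc'C) hAc'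
  -- second step
  rw [hgm']
  refine good1.mul ?_
  have hA'm : (A.map (MulAut.conj c').toMonoidHom).map (MulAut.conj m').toMonoidHom ≤ S := by
    rw [map_conj_map_conj, ← hgm']; exact hg
  exact good_of_proper IH h hF hNtop hSN hAc' hm'N hA'm

end Cfsg.Agent.H219.RedCent
end

-- part: H219/RedThree
section
/-!
The case `O_p(G) = 1` of the relative fusion theorem.
-/

set_option autoImplicit false

namespace Cfsg.Agent.H219.RedThree

open Subgroup Cfsg
open Cfsg.Agent.PLocal
open Cfsg.Agent.Lib.GoldschmidtFusion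
open Cfsg.Agent.Walter.GlaubermanFusion
open Cfsg.Agent.H219.Conf Cfsg.Agent.H219.Red Cfsg.Agent.H219.RedTwo

variable {G : Type*} [Group G] [Finite G] {p : ℕ} [hpf : Fact p.Prime] {lam : ZMod p}
  {S Z : Subgroup G}

theorem step_three (IH : ∀ K : Subgroup G, K ≠ ⊤ → RT p lam K) (h : Hyp p S Z)
    (hO : pCore p G = ⊥) :
    Ctl S (normalizer (Z : Set G)) ∨ FConf p lam S (normalizer (Z : Set G)) Z := by
  classical
  by_cases hF : FConf p lam S (normalizer (Z : Set G)) Z
  · exact Or.inr hF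
  left
  by_contra hC
  set H := normalizer (Z : Set G) with hH
  have hZ1 : Z ≠ ⊥ := by
    rintro rfl
    apply hC
    intro A hA g hg
    refine Good.of_mem ?_
    have : (⊥ : Subgroup G).Normal := inferInstance
    rw [hH, normalizer_eq_top_iff.2 this]
    trivial
  let FN : Subgroup G → Prop := fun X =>
    ¬ p ∣ (S ⊓ normalizer (X : Set G)).relIndex (normalizer (X : Set G))
  let Bad : Subgroup G → Prop := fun X => X ≤ S ∧ X ≠ ⊥ ∧ FN X ∧
    ∃ A ≤ S ⊓ normalizer (X : Set G), ∃ g ∈ normalizer (X : Set G),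
      A.map (MulAut.conj g).toMonoidHom ≤ S ⊓ normalizer (X : Set G) ∧ ¬ Good H A g
  have hNS : normalizer (S : Set G) ≤ H :=
    (ThompsonJA.normalizer_le_normalizer_centerThompsonAOf S).trans h.nn
  let P : Sylow p G := h.pS.toSylow h.syl
  have hPS : (P : Subgroup G) = S := rfl
  -- Alperin's theorem
  have hgen : ∀ A : Subgroup G, A ≤ S → ∀ g : G, A.map (MulAut.conj g).toMonoidHom ≤ S →
      (∀ X : Subgroup G, X ≤ S → X ≠ ⊥ → FN X → Nat.card A ≤ Nat.card X →
        ∀ x ∈ normalizer (X : Set G), Good H X x) → Good H A g := by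
    intro A hA g hg hX
    refine Good.of_gen (gen_of_conj P (fun X => X = P ∨ FN X) (Or.inl rfl)
      (fun X _ h1 _ _ => Or.inr h1) hA hg) ?_
    intro X hXP hFX hc x hx
    rcases hFX with rfl | h1
    · exact Good.of_mem (hNS hx)
    by_cases hX1 : X = ⊥
    · refine Good.of_cent ?_
      rw [hX1, mem_centralizer_iff]
      intro a ha
      rw [SetLike.mem_coe, mem_bot] at ha
      rw [ha, one_mul, mul_one]
    · exact hX X hXP hX1 h1 hc x hx
  have hself : ∀ X : Subgroup G, X ≤ S → X ≠ ⊥ → FN X → ∀ x ∈ normalizer (X : Set G),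
      ¬ Good H X x → Bad X := by
    intro X hX hX1 hFN x hx hbad
    refine ⟨hX, hX1, hFN, X, le_inf hX le_normalizer, x, hx, ?_, hbad⟩
    rw [mem_normalizer_iff_map_conj.1 hx]
    exact le_inf hX le_normalizer
  have hne : {X | Bad X}.Nonempty := by
    by_contra hcon
    rw [Set.not_nonempty_iff_eq_empty] at hcon
    apply hC
    intro A hA g hg
    refine hgen A hA g hg ?_
    intro X hX hX1 hFN _ x hx
    by_contra hbad
    have : X ∈ {X | Bad X} := hself X hX hX1 hFN x hx hbad
    rw [hcon] at this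
    exact this
  obtain ⟨X, hXbad, hXmax⟩ := (Set.toFinite {X | Bad X}).exists_maximalFor
    (fun X : Subgroup G => Nat.card (S ⊓ normalizer (X : Set G) : Subgroup G)) _ hne
  obtain ⟨hXS, hX1, hXN, A₀, hA₀, g₀, hg₀, hAg₀, hbad₀⟩ := hXbad
  set T := S ⊓ normalizer (X : Set G) with hT
  have hmax : ∀ X' : Subgroup G, Bad X' → Nat.card (S ⊓ normalizer (X' : Set G) : Subgroup G) ≤
      Nat.card T := by
    intro X' hX'
    rcases le_total (Nat.card T) (Nat.card (S ⊓ normalizer (X' : Set G) : Subgroup G)) with h1 | h1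
    · exact hXmax hX' h1
    · exact h1
  have hTS : T ≤ S := inf_le_left
  have hXtop : normalizer (X : Set G) ≠ ⊤ := by
    intro htop
    have hn : X.Normal := normalizer_eq_top_iff.1 htop
    have hle := Lib.Cores.le_pCore hn (h.pS.to_le hXS)
    rw [hO, le_bot_iff] at hle
    exact hX1 hle
  have hTne : T ≠ S := by
    intro hTS'
    have hSN : S ≤ normalizer (X : Set G) := by rw [← hTS', hT]; exact inf_le_right
    exact hbad₀ (good_of_proper IH h hF hXtop hSN (hA₀.trans inf_le_left) hg₀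
      (hAg₀.trans inf_le_left))
  have hTlt : T < S := lt_of_le_of_ne hTS hTne
  have hTp : IsPGroup p T := h.pS.to_le hTS
  -- Claim A
  have claimA : ∀ R : Subgroup G, R ≤ S → ∀ g : G, R.map (MulAut.conj g).toMonoidHom ≤ S →
      Nat.card T < Nat.card R → Good H R g := by
    intro R hR g hg hc
    refine hgen R hR g hg ?_
    intro X' hX' hX'1 hFN hcX x hx
    by_contra hbad
    have h1 := hmax X' (hself X' hX' hX'1 hFN x hx hbad)
    have h2 : Nat.card X' ≤ Nat.card (S ⊓ normalizer (X' : Set G) : Subgroup G) :=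
      Subgroup.card_le_of_le (le_inf hX' le_normalizer)
    omega
  -- Claim B
  have claimB : ∀ X' : Subgroup G, X' ≤ S → X' ≠ ⊥ →
      Nat.card T < Nat.card (S ⊓ normalizer (X' : Set G) : Subgroup G) →
      ∀ A ≤ S ⊓ normalizer (X' : Set G), ∀ g ∈ normalizer (X' : Set G),
        A.map (MulAut.conj g).toMonoidHom ≤ S ⊓ normalizer (X' : Set G) → Good H A g := by
    intro X' hX' hX'1 hc A hA g hg hAg
    obtain ⟨k, hk, hki⟩ := exists_fullyNormalized P hX'
    obtain ⟨y, hy1, hy2⟩ := exists_extension P rfl hki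
    set B := X'.map (MulAut.conj k).toMonoidHom with hB
    have hRy : (S ⊓ normalizer (X' : Set G)).map (MulAut.conj y).toMonoidHom ≤
        S ⊓ normalizer (B : Set G) := hy2
    have good_y : Good H (S ⊓ normalizer (X' : Set G)) y :=
      claimA _ inf_le_left y (hRy.trans inf_le_left) hc
    have hgN : y * g * y⁻¹ ∈ normalizer (B : Set G) := by
      rw [← hy1, ← map_conj_normalizer]
      exact conj_mem_map_conj hg y
    have hA' : A.map (MulAut.conj y).toMonoidHom ≤ S ⊓ normalizer (B : Set G) :=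
      (map_conj_mono hA y).trans hRy
    have hA'' : (A.map (MulAut.conj y).toMonoidHom).map (MulAut.conj (y * g * y⁻¹)).toMonoidHom ≤
        S ⊓ normalizer (B : Set G) := by
      rw [map_conj_map_conj]
      have e : y * g * y⁻¹ * y = y * g := by group
      rw [e, ← map_conj_map_conj]
      exact (map_conj_mono hAg y).trans hRy
    have hB1 : B ≠ ⊥ := by
      intro hb
      apply hX'1
      have h1 := card_map_conj X' k
      rw [← hB, hb, Subgroup.card_bot] at h1
      exact Subgroup.eq_bot_of_card_eq X' h1.symm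
    have hcB : Nat.card T < Nat.card (S ⊓ normalizer (B : Set G) : Subgroup G) := by
      have h1 := Subgroup.card_le_of_le hRy
      rw [card_map_conj] at h1
      omega
    have good_g : Good H (A.map (MulAut.conj y).toMonoidHom) (y * g * y⁻¹) := by
      by_contra hbad
      have h1 := hmax B ⟨hk, hB1, hki, _, hA', _, hgN, hA'', hbad⟩
      omega
    have g1 : Good H A (y * g * y⁻¹ * y) := (good_y.mono hA).mul good_g
    have e : y * g * y⁻¹ * y = y * g := by group
    rw [e] at g1
    have g2 := (good_y.mono hAg).symm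
    rw [map_conj_map_conj] at g2
    have g3 : Good H A (y⁻¹ * (y * g)) := g1.mul g2
    have e2 : y⁻¹ * (y * g) = g := by group
    rwa [e2] at g3
  -- `F₁ = Z ∩ Z(J(T))`
  have hTne1 : T ≠ ⊥ := by
    intro hb
    have h1 : X ≤ T := le_inf hXS le_normalizer
    rw [hb, le_bot_iff] at h1
    exact hX1 h1
  set J := centerThompsonAOf T with hJ
  have hJT : J ≤ T := ThompsonJA.centerThompsonAOf_le T
  have hJ1 : J ≠ ⊥ := ThompsonJA.centerThompsonAOf_ne_bot T hTp hTne1
  have hNTJ : normalizer (T : Set G) ≤ normalizer (J : Set G) :=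
    ThompsonJA.normalizer_le_normalizer_centerThompsonAOf T
  have hTlt' : Nat.card T < Nat.card (S ⊓ normalizer (J : Set G) : Subgroup G) := by
    have h1 := ConjFunctor.card_lt_card_of_lt (lt_inf_normalizer h.pS hTlt)
    have h2 : Nat.card (S ⊓ normalizer (T : Set G) : Subgroup G) ≤
      Nat.card (S ⊓ normalizer (J : Set G) : Subgroup G) :=
      Subgroup.card_le_of_le (inf_le_inf_left _ hNTJ)
    omega
  set F₁ := Z ⊓ J with hF₁
  have hJF : normalizer (J : Set G) ≤ normalizer (F₁ : Set G) := by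
    intro m hm
    refine mem_normalizer_inf hm (claimB J (hJT.trans hTS) hJ1 hTlt' J
      (le_inf (hJT.trans hTS) le_normalizer) m hm ?_)
    rw [mem_normalizer_iff_map_conj.1 hm]
    exact le_inf (hJT.trans hTS) le_normalizer
  have hF₁1 : F₁ ≠ ⊥ := by
    have h1 := PLocal.OffenderStep.inf_centralizer_ne_bot (p := p) Z S (h.pS.to_le h.le) h.pS
      h.le_norm hZ1
    obtain ⟨⟨z, hz1, hz2⟩, hz3⟩ := (Subgroup.ne_bot_iff_exists_ne_one).1 h1
    intro hb
    apply hz3
    apply Subtype.ext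
    have hzT : z ∈ T := by
      refine ⟨h.le hz1, ?_⟩
      exact centralizer_le_normalizer (X : Set G)
        (centralizer_le (show (X : Set G) ⊆ (S : Set G) from hXS) hz2)
    have hzJ : z ∈ J := ThompsonJA.inf_centralizer_le_centerThompsonAOf T
      ⟨hzT, centralizer_le (show (T : Set G) ⊆ (S : Set G) from hTS) hz2⟩
    have h2 : z ∈ F₁ := ⟨hz1, hzJ⟩
    rw [hb, mem_bot] at h2
    exact h2
  have hF₁S : F₁ ≤ S := inf_le_left.trans h.le
  have hTF : T ≤ normalizer (F₁ : Set G) := (le_normalizer.trans hNTJ).trans hJF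
  have hTSF : T ≤ S ⊓ normalizer (F₁ : Set G) := le_inf hTS hTF
  have hcF : Nat.card T < Nat.card (S ⊓ normalizer (F₁ : Set G) : Subgroup G) := by
    have h2 : Nat.card (S ⊓ normalizer (J : Set G) : Subgroup G) ≤
      Nat.card (S ⊓ normalizer (F₁ : Set G) : Subgroup G) :=
      Subgroup.card_le_of_le (inf_le_inf_left _ hJF)
    omega
  have hBF := claimB F₁ hF₁S hF₁1 hcF
  rcases (IH _ hXtop).apply_in (U := T) (F := F₁) inf_le_right hTp hXN inf_le_right
    (inf_le_right.trans hJF) with h1 | h1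
  · apply hbad₀
    obtain ⟨n, hn, c, hc, hg⟩ := h1 A₀ hA₀ g₀ hg₀ hAg₀
    have hAc : A₀.map (MulAut.conj c).toMonoidHom = A₀ := map_conj_of_mem_centralizer hc
    have hAn : A₀.map (MulAut.conj n).toMonoidHom ≤ T := by
      rw [hg, ← map_conj_map_conj, hAc] at hAg₀
      exact hAg₀
    rw [hg]
    refine (Good.of_cent hc).mul ?_
    rw [hAc]
    exact hBF A₀ (hA₀.trans hTSF) n hn.2 (hAn.trans hTSF)
  · apply hF
    have h2 : FConf p lam T H F₁ := by
      refine h1.transfer ?_
      intro Q hQ x hx hxQ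
      refine hBF Q (hQ.trans hTSF) x hx.2 ?_
      rw [mem_normalizer_iff_map_conj.1 hxQ]
      exact hQ.trans hTSF
    exact h2.mono hTS le_rfl inf_le_left

end Cfsg.Agent.H219.RedThree
end
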